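import Cfsg.Agent.Lib.SLPresent.Frame
import Cfsg.Agent.Lib.PSL2.Presentation

/-!
Short presentations of `SL_n`, part 2: the field structure of a root group.

* `aeval_pow_surjective`: squares (cubes, when `q ≠ 4`) span the field.
* `Base.exists_root_map`: root elements indexed by the field, once the translates of `a` commute.
-/

set_option autoImplicit false
set_option linter.unusedSimpArgs false

namespace Cfsg.Agent.SLPresent

open Equiv Equiv.Perm Polynomial
open Cfsg.Agent.PSL2.Pres (cj cj_zero cj_add word)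

variable {F : Type*} [Field F] [Finite F]

/-- Powers with a small exponent generate the field as a ring. -/
theorem aeval_pow_surjective (ω : Fˣ) (hω : ∀ x : Fˣ, x ∈ Subgroup.zpowers ω) (d : ℕ)
    (hd : (1 ≤ d ∧ d ≤ 2) ∨ (d = 3 ∧ Nat.card F ≠ 4)) :
    Function.Surjective fun P : ℤ[X] => aeval ((ω : F) ^ d) P := by
  classical
  haveI : Fintype F := Fintype.ofFinite F
  have hd0 : 0 < d := by omega
  set t : F := (ω : F) ^ d with ht
  let R : Subalgebra ℤ F := (aeval t : ℤ[X] →ₐ[ℤ] F).range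
  have hinv : ∀ x ∈ R, x⁻¹ ∈ R := by
    intro x hx
    by_cases h0 : x = 0
    · simp [h0]
    · have h := FiniteField.pow_card_sub_one_eq_one x h0
      have h2 : 2 ≤ Fintype.card F := Fintype.one_lt_card
      rw [show x⁻¹ = x ^ (Fintype.card F - 2) from inv_eq_of_mul_eq_one_right
        (by rw [← pow_succ', show Fintype.card F - 2 + 1 = Fintype.card F - 1 by omega, h])]
      exact pow_mem hx _
  let S : Subfield F := { R.toSubring with inv_mem' := hinv }
  have htS : t ∈ S := ⟨X, aeval_X t⟩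
  by_cases hk : Module.finrank S F = 1
  · intro r
    have hq : Nat.card S = Nat.card F := by
      have h := Module.natCard_eq_pow_finrank (K := S) (V := F)
      rw [hk, pow_one] at h
      exact h.symm
    have : (S : Set F) = Set.univ := Set.eq_of_subset_of_ncard_le (Set.subset_univ _)
      (by rw [Set.ncard_univ, ← Nat.card_coe_set_eq]; exact hq.ge)
    obtain ⟨P, hP⟩ : r ∈ S := by rw [← SetLike.mem_coe, this]; trivial
    exact ⟨P, hP⟩
  exfalso
  have hq := Module.natCard_eq_pow_finrank (K := S) (V := F)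
  set r := Nat.card S with hr
  set k := Module.finrank S F with hkd
  have hk1 : 0 < k := Module.finrank_pos
  have hr2 : 2 ≤ r := Finite.one_lt_card
  have hord : orderOf ω = Nat.card F - 1 := by
    rw [orderOf_eq_card_of_forall_mem_zpowers hω, Nat.card_units]
  have hqr : r ^ 2 ≤ Nat.card F := hq ▸ Nat.pow_le_pow_right (by omega) (by omega)
  have htne : (⟨t, htS⟩ : S) ≠ 0 := fun e => (pow_ne_zero d ω.ne_zero) (congrArg Subtype.val e)
  haveI : Fintype S := Fintype.ofFinite S
  have hpow := congrArg Subtype.val (FiniteField.pow_card_sub_one_eq_one (⟨t, htS⟩ : S) htne)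
  simp only [SubmonoidClass.coe_pow, OneMemClass.coe_one, ← Nat.card_eq_fintype_card, ← hr] at hpow
  rw [ht, ← pow_mul] at hpow
  have hdvd : orderOf ω ∣ d * (r - 1) := orderOf_dvd_of_pow_eq_one (Units.ext (by simpa using hpow))
  have hle := Nat.le_of_dvd (Nat.mul_pos hd0 (by omega)) hdvd
  rw [hord] at hle
  rcases hd with ⟨-, hd⟩ | ⟨rfl, h4⟩
  · have : d * (r - 1) ≤ 2 * (r - 1) := Nat.mul_le_mul_right _ hd
    have : 2 * r ≤ r * r := Nat.mul_le_mul_right r hr2
    have := sq r
    omega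
  · have hr' : r = 2 := by
      by_contra
      have : 3 * r ≤ r * r := Nat.mul_le_mul_right r (by omega)
      have := sq r
      omega
    rw [hr'] at hle hqr
    omega

variable {G : Type*} [Group G]

/-- An additive map into a group, from the values at the powers of a ring generator. -/
theorem mem_of_span {u : F → G} (hu : ∀ r s, u (r + s) = u r * u s) (t : F)
    (hsurj : Function.Surjective fun P : ℤ[X] => aeval t P) (K : Subgroup G) (hK : ∀ k : ℕ, u (t ^ k) ∈ K)
    (r : F) : u r ∈ K := by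
  have h0 : u 0 = 1 := by
    have h := hu 0 0
    rw [add_zero] at h
    exact left_eq_mul.mp h
  let T : AddSubgroup F :=
    { carrier := {r | u r ∈ K}
      zero_mem' := by show u 0 ∈ K; rw [h0]; exact one_mem K
      add_mem' := fun {r s} hr hs => by show u (r + s) ∈ K; rw [hu]; exact mul_mem hr hs
      neg_mem' := fun {r} hr => by
        show u (-r) ∈ K
        rw [eq_inv_of_mul_eq_one_left (a := u (-r)) (b := u r) (by rw [← hu, neg_add_cancel, h0])]
        exact inv_mem hr }
  obtain ⟨P, rfl⟩ := hsurj r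
  show aeval t P ∈ T
  induction P using Polynomial.induction_on' with
  | add p q hp hq => rw [map_add]; exact add_mem hp hq
  | monomial k z => rw [aeval_monomial, eq_intCast, ← zsmul_eq_mul]; exact zsmul_mem (show t ^ k ∈ T from hK k) z

variable {ι : Type*} [Fintype ι] [DecidableEq ι] {Fr : Frame ι} {D : Dat ι G}

/-- The relations on the root group: exponent `p` and the minimal polynomial. -/
structure RootRel (ω : Fˣ) (p : ℕ) (f : ℤ[X]) (D : Dat ι G) (Fr : Frame ι) [Fact p.Prime] [CharP F p] : Prop where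
  gen : ∀ x : Fˣ, x ∈ Subgroup.zpowers ω
  lift : f.map (Int.castRingHom (ZMod p)) = @minpoly (ZMod p) F _ _ (ZMod.algebra F p) (ω : F)
  pow_p : D.a ^ p = 1
  word_f : word D.a (D.hh Fr Fr.o1 Fr.o2)⁻¹ f = 1

/-- The root elements indexed by the field. -/
structure RootMap (ω : Fˣ) (x : ι → ι → F → G) (D : Dat ι G) (Fr : Frame ι) : Prop where
  add : ∀ {i j}, i ≠ j → ∀ t u, x i j (t + u) = x i j t * x i j u
  pow : ∀ {i j}, i ≠ j → ∀ k : ℤ, x i j ((ω : F) ^ k) = D.XX Fr i j k
  mv : ∀ {π}, π ∈ Fr.H → ∀ {i j}, i ≠ j → ∀ t, D.mv π (x i j t) = x (π i) (π j) t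

theorem RootMap.zero {ω : Fˣ} {x : ι → ι → F → G} (hx : RootMap ω x D Fr) {i j : ι} (hij : i ≠ j) :
    x i j 0 = 1 := by
  have h := hx.add hij 0 0
  rw [add_zero] at h
  exact left_eq_mul.mp h

theorem RootMap.mem_of_pow {ω : Fˣ} {x : ι → ι → F → G} (hx : RootMap ω x D Fr)
    {d : ℕ} (hd : Function.Surjective fun P : ℤ[X] => aeval ((ω : F) ^ d) P) {i j : ι} (hij : i ≠ j)
    (K : Subgroup G) (hK : ∀ k : ℕ, D.XX Fr i j ((d * k : ℕ) : ℤ) ∈ K) (t : F) : x i j t ∈ K := by
  refine mem_of_span (hx.add hij) _ hd K (fun k => ?_) t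
  rw [← pow_mul, ← zpow_natCast (ω : F), hx.pow hij]
  exact hK k

theorem Base.exists_root_map (B : Base Fr D) {ω : Fˣ} {p : ℕ} [Fact p.Prime] [CharP F p] {f : ℤ[X]}
    (R : RootRel ω p f D Fr) (hc : ∀ s t, Commute (D.eta Fr s) (D.eta Fr t)) :
    ∃ x : ι → ι → F → G, RootMap ω x D Fr := by
  obtain ⟨E, hadd, hX, hE1, hW, -, hker, -⟩ :=
    PSL2.Pres.exists_eval_hom D.a (D.hh Fr Fr.o1 Fr.o2)⁻¹ hc
  have hsurj : Function.Surjective fun P : ℤ[X] => aeval (ω : F) P := by
    simpa using aeval_pow_surjective ω R.gen 1 (Or.inl ⟨le_rfl, by norm_num⟩)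
  obtain ⟨u, hu, huadd⟩ := PSL2.Pres.exists_add_hom E hadd hker
    ((PSL2.Pres.E_natC hadd hE1 p).trans R.pow_p) R.lift ((hW f).symm.trans R.word_f) hsurj
  have hu0 : u 0 = 1 := by
    have h := huadd 0 0
    rw [add_zero] at h
    exact left_eq_mul.mp h
  have hnat : ∀ k : ℕ, u ((ω : F) ^ k) = D.eta Fr k := fun k => by
    rw [← aeval_X (R := ℤ) (ω : F), ← map_pow, hu, PSL2.Pres.E_pow hX hE1]; rfl
  have hN : D.eta Fr (orderOf ω : ℤ) = D.eta Fr 0 := by
    rw [← hnat, ← Units.val_pow_eq_pow_val, pow_orderOf_eq_one, Units.val_one, ← pow_zero (ω : F), hnat]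
    rfl
  have hper : Function.Periodic (D.eta Fr) (orderOf ω : ℤ) := fun t => by
    unfold Dat.eta at hN ⊢
    rw [cj_add, hN, ← cj_add, add_zero]
  have hint : ∀ k : ℤ, u ((ω : F) ^ k) = D.eta Fr k := fun k => by
    have hpos : (0 : ℤ) < orderOf ω := by exact_mod_cast orderOf_pos ω
    obtain ⟨r, hr⟩ := Int.eq_ofNat_of_zero_le (Int.emod_nonneg k hpos.ne')
    have hk := Int.emod_add_mul_ediv k (orderOf ω : ℤ)
    rw [hr] at hk
    have hp := hper.int_mul (k / (orderOf ω : ℤ)) (r : ℤ)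
    rw [Int.cast_id] at hp
    rw [← hk, mul_comm (orderOf ω : ℤ), hp, ← hnat, zpow_add₀ ω.ne_zero, zpow_natCast, mul_comm _ (orderOf ω : ℤ),
      zpow_mul, zpow_natCast, ← Units.val_pow_eq_pow_val ω (orderOf ω), pow_orderOf_eq_one, Units.val_one,
      one_zpow, mul_one]
  refine ⟨fun i j t => D.mv (Fr.pick i j) (u t), ⟨fun _ t t' => by rw [huadd, mv_mul], fun _ k => ?_, ?_⟩⟩
  · show D.mv _ (u _) = _
    rw [hint]; rfl
  · intro π hπ i j hij t
    show D.mv π (D.mv _ (u t)) = D.mv _ (u t)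
    by_cases ht : t = 0
    · simp [ht, hu0, mv_one]
    · obtain ⟨k, rfl⟩ := PSL2.Pres.exists_pow_eq R.gen t ht
      rw [← zpow_natCast, hint]
      exact B.mv_XX hπ hij _

end Cfsg.Agent.SLPresent
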