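import Cfsg.Agent.Lib.SLPresent.HighRank
import Cfsg.Agent.Lib.AltPresent.Tietze

/-!
Short presentations of `SL_n`, part 6: the presented group.

* `permSL`: even permutations in SL.
* `exists_pres_high`: `12 + 2 * s` relations on top of a presentation of `A_n`, with `s` generators of a
  point stabiliser, and one more when `n = 4`.
-/

set_option autoImplicit false
set_option linter.unusedSimpArgs false

namespace Cfsg.Agent.SLPresent

open Equiv Equiv.Perm Matrix
open Cfsg.Agent.PSL2.Pres (word map_word cj)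
open scoped commutatorElement

local notation "tv" => Matrix.SpecialLinearGroup.transvection

variable {m : ℕ} {F : Type*} [Field F]

/-- Even permutations as matrices. -/
def permSL (F : Type*) [Field F] (m : ℕ) :
    ↥(alternatingGroup (Fin (m + 1))) →* Matrix.SpecialLinearGroup (Fin (m + 1)) F :=
  MonoidHom.mk' (fun π => ⟨((π : Perm (Fin (m + 1)))⁻¹).permMatrix F, by
    rw [Matrix.det_permutation, Perm.sign_inv, Equiv.Perm.mem_alternatingGroup.mp π.2]; simp⟩)
    fun π ρ => Subtype.ext (by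
      show ((π * ρ : ↥(alternatingGroup (Fin (m + 1)))) : Perm (Fin (m + 1)))⁻¹.permMatrix F = _
      rw [Subgroup.coe_mul, _root_.mul_inv_rev, Matrix.permMatrix_mul]; rfl)

theorem tv_commute {i j k l : Fin (m + 1)} (hij : i ≠ j) (hkl : k ≠ l) (h1 : i ≠ l) (h2 : j ≠ k) (s t : F) :
    Commute (tv hij s) (tv hkl t) := by
  have h := (SLRGD.x_comm_cases F m hij hkl s t).2.2 h2 h1
  exact mul_inv_eq_iff_eq_mul.mp h

theorem tv_chain {i j k : Fin (m + 1)} (hij : i ≠ j) (hjk : j ≠ k) (hik : i ≠ k) (s t : F) :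
    tv hij s * tv hjk t = tv hik (s * t) * tv hjk t * tv hij s := by
  rw [← SLGen.tv_comm hij hjk hik s t]; group

/-- The frame on the first three points with the even permutations. -/
def altFrame (m : ℕ) (hm : 3 ≤ m) : Frame (Fin (m + 1)) where
  H := alternatingGroup _
  hH := le_rfl
  o0 := ⟨0, by omega⟩
  o1 := ⟨1, by omega⟩
  o2 := ⟨2, by omega⟩
  ne01 := Fin.ne_of_val_ne (by norm_num)
  ne02 := Fin.ne_of_val_ne (by norm_num)
  ne12 := Fin.ne_of_val_ne (by norm_num)
  trans2 i j hij := by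
    set o2 : Fin (m + 1) := ⟨2, by omega⟩
    set o3 : Fin (m + 1) := ⟨3, by omega⟩
    obtain ⟨π, hπ⟩ := exists_perm_map ![(⟨0, by omega⟩ : Fin (m + 1)), ⟨1, by omega⟩] ![i, j]
      (by simp [Function.Injective, Fin.forall_fin_succ])
      (by simp [Function.Injective, Fin.forall_fin_succ, hij, hij.symm])
    have h0 := hπ 0
    have h1 := hπ 1
    simp only [Matrix.cons_val_zero, Matrix.cons_val_one] at h0 h1
    rcases Int.units_eq_one_or (sign π) with h | h
    · exact ⟨π, mem_alternatingGroup.mpr h, h0, h1⟩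
    · refine ⟨π * swap o2 o3, mem_alternatingGroup.mpr ?_, ?_, ?_⟩
      · rw [Perm.sign_mul, h, sign_swap (Fin.ne_of_val_ne (by norm_num))]; decide
      · rw [Perm.mul_apply, swap_apply_of_ne_of_ne (Fin.ne_of_val_ne (by norm_num))
          (Fin.ne_of_val_ne (by norm_num)), h0]
      · rw [Perm.mul_apply, swap_apply_of_ne_of_ne (Fin.ne_of_val_ne (by norm_num))
          (Fin.ne_of_val_ne (by norm_num)), h1]

/-- The twelve common relations. -/
noncomputable def commonList {G : Type*} [Group G] (Fr : Frame (Fin (m + 1))) (o3 : Fin (m + 1)) (p : ℕ)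
    (f : Polynomial ℤ) (L : List ({ij : Fin (m + 1) × Fin (m + 1) // ij.1 ≠ ij.2} × ℕ))
    (D : Dat (Fin (m + 1)) G) : List G :=
  [D.mv (swap Fr.o0 Fr.o1 * swap Fr.o2 o3) D.b * D.b,
    ⁅D.b, D.hh Fr Fr.o1 Fr.o2⁆,
    D.b * D.hh Fr Fr.o1 Fr.o2 * D.hh Fr Fr.o2 Fr.o0,
    D.b * D.a * D.b⁻¹ * (D.eta Fr 2)⁻¹,
    ⁅D.hh Fr Fr.o2 o3, D.a⁆,
    ⁅D.XX Fr Fr.o0 Fr.o1 0, D.XX Fr Fr.o0 Fr.o2 0⁆,
    ⁅D.XX Fr Fr.o0 Fr.o2 0, D.XX Fr Fr.o1 Fr.o2 0⁆,
    D.XX Fr Fr.o0 Fr.o1 0 * D.XX Fr Fr.o1 Fr.o2 0 *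
      (D.XX Fr Fr.o0 Fr.o2 0 * D.XX Fr Fr.o1 Fr.o2 0 * D.XX Fr Fr.o0 Fr.o1 0)⁻¹,
    ⁅D.XX Fr Fr.o0 Fr.o1 0, D.XX Fr Fr.o2 o3 0⁆,
    D.a ^ p,
    word D.a (D.hh Fr Fr.o1 Fr.o2)⁻¹ f,
    D.b * D.P (swap Fr.o0 Fr.o1 * swap Fr.o1 Fr.o2) *
      ((L.map fun e => D.XX Fr e.1.1.1 e.1.1.2 (e.2 : ℤ)).prod)⁻¹]

/-- The relations for the stabiliser of two points. -/
def stabList {G : Type*} [Group G] (S : List (Perm (Fin (m + 1)))) (D : Dat (Fin (m + 1)) G) : List G :=
  (S.map fun π => ⁅D.P π, D.a⁆) ++ S.map fun π => ⁅D.P π, D.b⁆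

/-- The second chain relation, needed for four points. -/
noncomputable def extraList {G : Type*} [Group G] (Fr : Frame (Fin (m + 1))) (o3 : Fin (m + 1))
    (D : Dat (Fin (m + 1)) G) : List G :=
  if m = 3 then [D.XX Fr Fr.o0 Fr.o1 0 * D.XX Fr Fr.o1 o3 0 *
    (D.XX Fr Fr.o0 o3 0 * D.XX Fr Fr.o1 o3 0 * D.XX Fr Fr.o0 Fr.o1 0)⁻¹] else []

section map

variable {G G' : Type*} [Group G] [Group G'] (φ : G →* G') (Fr : Frame (Fin (m + 1))) (o3 : Fin (m + 1)) (p : ℕ)
  (f : Polynomial ℤ) (L : List ({ij : Fin (m + 1) × Fin (m + 1) // ij.1 ≠ ij.2} × ℕ))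
  (S : List (Perm (Fin (m + 1)))) (D : Dat (Fin (m + 1)) G)

theorem commonList_map : (commonList Fr o3 p f L D).map φ = commonList Fr o3 p f L (D.map φ) := by
  have hP : ∀ π, φ (D.P π) = (D.map φ).P π := fun _ => rfl
  have ha : φ D.a = (D.map φ).a := rfl
  have hb : φ D.b = (D.map φ).b := rfl
  simp only [commonList, List.map_cons, List.map_nil, map_mul, map_inv, map_pow, map_commutatorElement, D.map_mv φ,
    D.map_hh Fr φ, D.map_eta Fr φ, D.map_XX Fr φ, map_word, map_list_prod, List.map_map, hP, ha, hb,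
    Function.comp_def]

theorem stabList_map : (stabList S D).map φ = stabList S (D.map φ) := by
  have hP : ∀ π, φ (D.P π) = (D.map φ).P π := fun _ => rfl
  have ha : φ D.a = (D.map φ).a := rfl
  have hb : φ D.b = (D.map φ).b := rfl
  simp only [stabList, List.map_append, List.map_map, Function.comp_def, map_commutatorElement, hP, ha, hb]

theorem extraList_map : (extraList Fr o3 D).map φ = extraList Fr o3 (D.map φ) := by
  unfold extraList
  split_ifs <;> simp only [List.map_cons, List.map_nil, map_mul, map_inv, D.map_XX Fr φ]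

end map

theorem commutator_one_iff {G : Type*} [Group G] {x y : G} : ⁅x, y⁆ = 1 ↔ Commute x y :=
  commutatorElement_eq_one_iff_commute

/-- The relations hold in SL. -/
theorem rels_hold {Fr : Frame (Fin (m + 1))} {o3 : Fin (m + 1)} (hA : Fr.H = alternatingGroup (Fin (m + 1)))
    (h03 : Fr.o0 ≠ o3) (h13 : Fr.o1 ≠ o3) (h23 : Fr.o2 ≠ o3) {ω : Fˣ} {p : ℕ} [CharP F p] {f : Polynomial ℤ}
    (hf : Polynomial.aeval (ω : F) f = 0) {D : Dat (Fin (m + 1)) (Matrix.SpecialLinearGroup (Fin (m + 1)) F)}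
    (M : Model (MonoidHom.id _) ω D Fr) {L : List ({ij : Fin (m + 1) × Fin (m + 1) // ij.1 ≠ ij.2} × ℕ)}
    (hL : (L.map fun e => tv e.1.2 ((ω : F) ^ e.2)).prod =
      D.b * D.P (swap Fr.o0 Fr.o1 * swap Fr.o1 Fr.o2))
    {S : List (Perm (Fin (m + 1)))}
    (hS : ∀ π ∈ S, π ∈ Fr.H ∧ π Fr.o0 = Fr.o0 ∧ π Fr.o1 = Fr.o1) :
    ∀ w ∈ commonList Fr o3 p f L D ++ stabList S D ++ extraList Fr o3 D, w = 1 := by
  obtain ⟨n01, n02, n12⟩ := And.intro Fr.ne01 (And.intro Fr.ne02 Fr.ne12)
  have hω : (ω : F) ≠ 0 := ω.ne_zero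
  have cb : (D.b : Matrix (Fin (m + 1)) (Fin (m + 1)) F) = Matrix.diagonal (hd (ω : F) Fr.o0 Fr.o1) := M.th_b
  have ca : D.a = tv n01 1 := Subtype.ext M.th_a
  have hh : ∀ {i j}, i ≠ j →
      (D.hh Fr i j : Matrix (Fin (m + 1)) (Fin (m + 1)) F) = Matrix.diagonal (hd (ω : F) i j) := fun h => M.th_hh h
  have XX : ∀ {i j} (h : i ≠ j) (k : ℤ), D.XX Fr i j k = tv h ((ω : F) ^ k) := fun h k => M.th_XX h k
  have mv : ∀ {π}, π ∈ Fr.H → ∀ g, (D.mv π g : Matrix (Fin (m + 1)) (Fin (m + 1)) F) =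
      (g : Matrix (Fin (m + 1)) (Fin (m + 1)) F).submatrix ⇑(π⁻¹) ⇑(π⁻¹) := fun h g => M.th_mv h g
  have hchain : ∀ {k} (hk0 : Fr.o0 ≠ k) (hk1 : Fr.o1 ≠ k), D.XX Fr Fr.o0 Fr.o1 0 * D.XX Fr Fr.o1 k 0 *
      (D.XX Fr Fr.o0 k 0 * D.XX Fr Fr.o1 k 0 * D.XX Fr Fr.o0 Fr.o1 0)⁻¹ = 1 := fun hk0 hk1 => by
    rw [mul_inv_eq_one, XX n01, XX hk1, XX hk0, zpow_zero]
    simpa only [one_mul] using tv_chain n01 hk1 hk0 (1 : F) 1
  intro w hw
  simp only [List.mem_append] at hw
  rcases hw with (hw | hw) | hw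
  · simp only [commonList, List.mem_cons, List.mem_nil_iff, or_false] at hw
    have hσ : swap Fr.o0 Fr.o1 * swap Fr.o2 o3 ∈ Fr.H := by
      rw [hA, mem_alternatingGroup, Perm.sign_mul, sign_swap n01, sign_swap h23]; decide
    rcases hw with rfl | rfl | rfl | rfl | rfl | rfl | rfl | rfl | rfl | rfl | rfl | rfl
    · apply Subtype.ext
      rw [Matrix.SpecialLinearGroup.coe_mul, Matrix.SpecialLinearGroup.coe_one, mv hσ, cb, diagonal_submatrix,
        Matrix.diagonal_mul_diagonal, ← Matrix.diagonal_one]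
      congr 1
      funext l
      simp only [hd, _root_.mul_inv_rev, swap_inv, Perm.mul_apply]
      by_cases l0 : l = Fr.o0
      · subst l0; simp [n01, n02, n12, h03, h13, h23, n01.symm, n02.symm, n12.symm, h03.symm, h13.symm, hω, swap_apply_def]
      by_cases l1 : l = Fr.o1
      · subst l1; simp [n01, n02, n12, h03, h13, h23, n01.symm, n02.symm, n12.symm, h03.symm, h13.symm, hω, swap_apply_def]
      by_cases l2 : l = Fr.o2
      · subst l2; simp [n01, n02, n12, h03, h13, h23, n01.symm, n02.symm, n12.symm, h03.symm, h13.symm, hω, swap_apply_def]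
      by_cases l3 : l = o3
      · subst l3; simp [n01, n02, n12, h03, h13, h23, n01.symm, n02.symm, n12.symm, h03.symm, h13.symm, h23.symm, hω, swap_apply_def]
      simp [l0, l1, l2, l3, swap_apply_def]
    · rw [commutator_one_iff]
      apply Subtype.ext
      rw [Matrix.SpecialLinearGroup.coe_mul, Matrix.SpecialLinearGroup.coe_mul, cb, hh n12,
        Matrix.diagonal_mul_diagonal, Matrix.diagonal_mul_diagonal]
      congr 1; funext l; exact mul_comm _ _
    · apply Subtype.ext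
      rw [Matrix.SpecialLinearGroup.coe_mul, Matrix.SpecialLinearGroup.coe_mul, cb, hh n12, hh n02.symm,
        Matrix.diagonal_mul_diagonal, Matrix.diagonal_mul_diagonal, Matrix.SpecialLinearGroup.coe_one,
        ← Matrix.diagonal_one]
      congr 1
      funext l
      simp only [hd]
      by_cases l0 : l = Fr.o0
      · subst l0; simp [n01, n02, n01.symm, n02.symm, hω]
      by_cases l1 : l = Fr.o1
      · subst l1; simp [n12, n01.symm, hω]
      by_cases l2 : l = Fr.o2
      · subst l2; simp [n12.symm, n02.symm, hω]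
      simp [l0, l1, l2]
    · rw [mul_inv_eq_one, ca, diagonal_conj_transvection cb n01 (by simp [hd, n01.symm, hω])]
      refine Eq.trans ?_ (M.th_eta 2).symm
      congr 1
      simp [hd, n01.symm]
      rw [pow_two]
    · rw [commutator_one_iff, ca]
      have := diagonal_conj_transvection (hh h23) n01 (by simp [hd, n12, h13]) (1 : F)
      simp only [hd, if_neg n02, if_neg h03, if_neg n12, if_neg h13, div_one, mul_one] at this
      exact mul_inv_eq_iff_eq_mul.mp this
    · rw [commutator_one_iff, XX n01, XX n02]; exact tv_commute n01 n02 n02 n01.symm _ _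
    · rw [commutator_one_iff, XX n02, XX n12]; exact tv_commute n02 n12 n02 n12.symm _ _
    · exact hchain n02 n12
    · rw [commutator_one_iff, XX n01, XX h23]; exact tv_commute n01 h23 h03 n12 _ _
    · rw [ca, ← zpow_natCast, tv_zpow, Int.cast_natCast, CharP.cast_eq_zero, zero_mul]
      exact map_one (tvHom (F := F) n01)
    · have := M.th_word 1 f
      rw [pow_one, pow_one, hf] at this
      exact this.trans (map_one (tvHom (F := F) n01))
    · rw [mul_inv_eq_one, ← hL]
      congr 1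
      exact List.map_congr_left fun e _ => by rw [XX e.1.2, zpow_natCast]
  · simp only [stabList, List.mem_append, List.mem_map] at hw
    rcases hw with ⟨π, hπ, rfl⟩ | ⟨π, hπ, rfl⟩
    · obtain ⟨hπH, p0, p1⟩ := hS π hπ
      rw [commutator_one_iff]
      show D.P π * D.a = D.a * D.P π
      rw [← mul_inv_eq_iff_eq_mul]
      apply Subtype.ext
      rw [show D.P π * D.a * (D.P π)⁻¹ = D.mv π D.a from rfl, mv hπH, ca]
      show (Matrix.transvection Fr.o0 Fr.o1 (1 : F)).submatrix _ _ = Matrix.transvection Fr.o0 Fr.o1 (1 : F)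
      rw [transvection_submatrix, p0, p1]
    · obtain ⟨hπH, p0, p1⟩ := hS π hπ
      rw [commutator_one_iff]
      show D.P π * D.b = D.b * D.P π
      rw [← mul_inv_eq_iff_eq_mul]
      apply Subtype.ext
      rw [show D.P π * D.b * (D.P π)⁻¹ = D.mv π D.b from rfl, mv hπH, cb, diagonal_submatrix]
      congr 1
      funext l
      simp only [hd, Perm.inv_def, Equiv.symm_apply_eq, p0, p1]
  · unfold extraList at hw
    split_ifs at hw
    · rw [List.mem_singleton] at hw
      subst hw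
      exact hchain h03 h13
    · simp at hw

variable [Finite F]

/-- A presentation of `SL_{m+1}`, `m + 1 ≥ 4`, with the values of the first generators. -/
theorem exists_pres_high_ev (hm : 3 ≤ m) {l : ℕ} (relsA : Finset (FreeGroup (Fin l)))
    (e : PresentedGroup (↑relsA : Set (FreeGroup (Fin l))) ≃* ↥(alternatingGroup (Fin (m + 1))))
    (S : List (Perm (Fin (m + 1))))
    (hSm : ∀ π ∈ S, π ∈ alternatingGroup (Fin (m + 1)) ∧ π ⟨0, by omega⟩ = ⟨0, by omega⟩ ∧
      π ⟨1, by omega⟩ = ⟨1, by omega⟩)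
    (hS : ∀ π ∈ alternatingGroup (Fin (m + 1)), π ⟨0, by omega⟩ = ⟨0, by omega⟩ →
      π ⟨1, by omega⟩ = ⟨1, by omega⟩ → π ∈ Subgroup.closure {x | x ∈ S}) :
    ∃ rels : Finset (FreeGroup (Fin (l + 2))),
      rels.card ≤ relsA.card + 12 + 2 * S.length + (if m = 3 then 1 else 0) ∧
      ∃ E : PresentedGroup (↑rels : Set (FreeGroup (Fin (l + 2)))) ≃* Matrix.SpecialLinearGroup (Fin (m + 1)) F,
        ∀ i, E (PresentedGroup.of (Fin.castAdd 2 i)) = permSL F m (e (PresentedGroup.of i)) := by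
  classical
  obtain ⟨p, hp⟩ := CharP.exists F
  haveI : Fact p.Prime := ⟨CharP.char_is_prime F p⟩
  obtain ⟨ω, hω, -⟩ := PSL2.Pres.exists_generator (F := F)
  obtain ⟨f, hfmap, hf⟩ := PSL2.Pres.exists_lift_minpoly (p := p) (ω : F)
  set Fr := altFrame m hm with hFr
  set o3 : Fin (m + 1) := ⟨3, by omega⟩
  have h03 : Fr.o0 ≠ o3 := Fin.ne_of_val_ne (by norm_num [hFr, altFrame, o3])
  have h13 : Fr.o1 ≠ o3 := Fin.ne_of_val_ne (by norm_num [hFr, altFrame, o3])
  have h23 : Fr.o2 ≠ o3 := Fin.ne_of_val_ne (by norm_num [hFr, altFrame, o3])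
  have hζ : swap Fr.o0 Fr.o1 * swap Fr.o1 Fr.o2 ∈ alternatingGroup (Fin (m + 1)) :=
    mem_alternatingGroup.mpr (by rw [Perm.sign_mul, sign_swap Fr.ne01, sign_swap Fr.ne12]; decide)
  haveI : Nontrivial (Fin (m + 1)) := ⟨Fr.o0, Fr.o1, Fr.ne01⟩
  let aS : Matrix.SpecialLinearGroup (Fin (m + 1)) F := tv Fr.ne01 1
  let bS : Matrix.SpecialLinearGroup (Fin (m + 1)) F :=
    Matrix.SpecialLinearGroup.diag2n Fr.ne01 (ω : F) ω.ne_zero
  obtain ⟨L, hL⟩ := exists_transvection_word ω hω (bS * permSL F m ⟨_, hζ⟩)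
  -- the words
  let inl : FreeGroup (Fin l) →* FreeGroup (Fin (l + 2)) := FreeGroup.map (Fin.castAdd 2)
  have hw : ∀ π : Perm (Fin (m + 1)), ∃ w : FreeGroup (Fin l), ∀ h : π ∈ alternatingGroup (Fin (m + 1)),
      PresentedGroup.mk _ w = e.symm ⟨π, h⟩ := fun π => by
    by_cases h : π ∈ alternatingGroup (Fin (m + 1))
    · obtain ⟨w, hw⟩ := PresentedGroup.mk_surjective (↑relsA : Set (FreeGroup (Fin l))) (e.symm ⟨π, h⟩)
      exact ⟨w, fun _ => hw⟩
    · exact ⟨1, fun h' => absurd h' h⟩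
  choose wd hwd using hw
  let DF : Dat (Fin (m + 1)) (FreeGroup (Fin (l + 2))) :=
    ⟨fun π => inl (wd π), FreeGroup.of (Fin.natAdd l 0), FreeGroup.of (Fin.natAdd l 1)⟩
  let R : List (FreeGroup (Fin (l + 2))) :=
    commonList Fr o3 p f L DF ++ stabList S DF ++ extraList Fr o3 DF
  let rels : Finset (FreeGroup (Fin (l + 2))) := relsA.image inl ∪ R.toFinset
  refine ⟨rels, ?_, ?_⟩
  · refine (Finset.card_union_le _ _).trans ((add_le_add Finset.card_image_le (List.toFinset_card_le R)).trans ?_)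
    simp only [R, List.length_append, commonList, stabList, List.length_map, List.length_cons, List.length_nil,
      extraList]
    split_ifs <;> simp <;> omega
  -- the map to SL
  let ev : Fin (l + 2) → Matrix.SpecialLinearGroup (Fin (m + 1)) F :=
    Fin.append (fun i => permSL F m (e (PresentedGroup.of i))) ![aS, bS]
  have hinl : ∀ w, FreeGroup.lift ev (inl w) = permSL F m (e (PresentedGroup.mk _ w)) := by
    intro w
    have : (FreeGroup.lift ev).comp inl = ((permSL F m).comp e.toMonoidHom).comp (PresentedGroup.mk _) :=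
      FreeGroup.ext_hom _ _ fun i => by
        show FreeGroup.lift ev (inl (FreeGroup.of i)) = permSL F m (e (PresentedGroup.of i))
        simp [inl, ev, Fin.append_left]
    exact DFunLike.congr_fun this w
  have hSM : Model (MonoidHom.id _) ω (DF.map (FreeGroup.lift ev)) Fr := by
    refine ⟨fun π hπ => ⟨1, ?_⟩, ?_, ?_⟩
    · show ((FreeGroup.lift ev (inl (wd π))) : Matrix (Fin (m + 1)) (Fin (m + 1)) F) = _
      rw [hinl, hwd π hπ, e.apply_symm_apply, one_smul]; rfl
    · show ((FreeGroup.lift ev (FreeGroup.of (Fin.natAdd l 0))) : Matrix (Fin (m + 1)) (Fin (m + 1)) F) = _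
      simp [ev, Fin.append_right]; rfl
    · show ((FreeGroup.lift ev (FreeGroup.of (Fin.natAdd l 1))) : Matrix (Fin (m + 1)) (Fin (m + 1)) F) = _
      simp [ev, Fin.append_right, bS, Matrix.SpecialLinearGroup.diag2n_coe, hd]
  have hrels : ∀ r ∈ (↑rels : Set (FreeGroup (Fin (l + 2)))), FreeGroup.lift ev r = 1 := by
    intro r hr
    simp only [rels, Finset.coe_union, Finset.coe_image, Set.mem_union, Set.mem_image, Finset.mem_coe,
      List.mem_toFinset] at hr
    rcases hr with ⟨r, hr, rfl⟩ | hr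
    · rw [hinl, PresentedGroup.one_of_mem (Finset.mem_coe.mpr hr), map_one, map_one]
    · have h1 := rels_hold (o3 := o3) (rfl : Fr.H = _) h03 h13 h23 (p := p) hf hSM (L := L) (S := S) (by
        rw [hL]
        show _ = FreeGroup.lift ev (FreeGroup.of _) * FreeGroup.lift ev (inl (wd _))
        rw [hinl, hwd _ hζ, e.apply_symm_apply]
        simp [ev, Fin.append_right]) (fun π hπ => hSm π hπ)
      refine h1 _ ?_
      rw [← commonList_map, ← stabList_map, ← extraList_map, ← List.map_append, ← List.map_append]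
      exact List.mem_map_of_mem hr
  let th := PresentedGroup.toGroup hrels
  let jA : PresentedGroup (↑relsA : Set (FreeGroup (Fin l))) →* PresentedGroup (↑rels : Set (FreeGroup (Fin (l + 2)))) :=
    PresentedGroup.toGroup (f := fun i => PresentedGroup.of (Fin.castAdd 2 i)) fun r hr => by
      have : FreeGroup.lift (fun i => (PresentedGroup.of (Fin.castAdd 2 i) :
          PresentedGroup (↑rels : Set (FreeGroup (Fin (l + 2)))))) = (PresentedGroup.mk _).comp inl :=
        FreeGroup.ext_hom _ _ fun i => by simp [inl]; rfl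
      rw [this]
      exact PresentedGroup.one_of_mem (Finset.mem_union_left _ (Finset.mem_image_of_mem _ hr))
  let D := DF.map (PresentedGroup.mk (↑rels : Set (FreeGroup (Fin (l + 2)))))
  have hDP : ∀ π (h : π ∈ alternatingGroup (Fin (m + 1))), D.P π = jA (e.symm ⟨π, h⟩) := fun π h => by
    rw [← hwd π h]
    have : jA.comp (PresentedGroup.mk _) = (PresentedGroup.mk _).comp inl :=
      FreeGroup.ext_hom _ _ fun i => by
        show jA (PresentedGroup.of i) = _
        simp [inl, jA]; rfl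
    exact (DFunLike.congr_fun this (wd π)).symm
  have hthm : ∀ w, th (PresentedGroup.mk _ w) = FreeGroup.lift ev w := fun w => rfl
  have hM : Model th ω D Fr := ⟨fun π hπ => by
      obtain ⟨c, hc⟩ := hSM.th_P π hπ
      exact ⟨c, (congrArg Subtype.val (hthm _)).trans hc⟩,
    (congrArg Subtype.val (hthm _)).trans hSM.th_a, (congrArg Subtype.val (hthm _)).trans hSM.th_b⟩
  have hG : ∀ r ∈ commonList Fr o3 p f L D ++ stabList S D ++ extraList Fr o3 D, r = 1 := by
    intro r hr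
    rw [← commonList_map, ← stabList_map, ← extraList_map, ← List.map_append, ← List.map_append] at hr
    obtain ⟨r, hr', rfl⟩ := List.mem_map.mp hr
    exact PresentedGroup.one_of_mem (Finset.mem_union_right _ (List.mem_toFinset.mpr hr'))
  simp only [List.mem_append, commonList, List.mem_cons, List.mem_nil_iff, or_false] at hG
  have hmul : ∀ x ∈ Fr.H, ∀ y ∈ Fr.H, D.P (x * y) = D.P x * D.P y := fun x hx y hy => by
    rw [hDP x hx, hDP y hy, hDP (x * y) (mul_mem hx hy), ← map_mul, ← map_mul]; rfl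
  have hPone : D.P 1 = 1 := by
    have := hmul 1 (one_mem _) 1 (one_mem _)
    rw [one_mul] at this; exact left_eq_mul.mp this
  have hσ : swap Fr.o0 Fr.o1 * swap Fr.o2 o3 ∈ Fr.H :=
    mem_alternatingGroup.mpr (by rw [Perm.sign_mul, sign_swap Fr.ne01, sign_swap h23]; decide)
  have hstab : ∀ g : _, g = D.a ∨ g = D.b → ∀ π ∈ Fr.H, π Fr.o0 = Fr.o0 → π Fr.o1 = Fr.o1 →
      Commute (D.P π) g := by
    intro g hg π hπ h0 h1
    have hc := hS π hπ h0 h1
    suffices π ∈ Fr.H ∧ Commute (D.P π) g from this.2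
    clear hπ h0 h1
    induction hc using Subgroup.closure_induction with
    | mem x hx =>
      refine ⟨(hSm x hx).1, ?_⟩
      have := hG ⁅D.P x, g⁆ (Or.inl (Or.inr (by
        simp only [stabList, List.mem_append, List.mem_map]
        rcases hg with rfl | rfl
        · exact Or.inl ⟨x, hx, rfl⟩
        · exact Or.inr ⟨x, hx, rfl⟩)))
      exact commutator_one_iff.mp this
    | one => exact ⟨one_mem _, by rw [hPone]; exact Commute.one_left _⟩
    | mul x y _ _ hx hy => exact ⟨mul_mem hx.1 hy.1, by rw [hmul x hx.1 y hy.1]; exact hx.2.mul_left hy.2⟩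
    | inv x _ hx =>
      refine ⟨inv_mem hx.1, ?_⟩
      rw [eq_inv_of_mul_eq_one_left (a := D.P x⁻¹) (b := D.P x)
        (by rw [← hmul _ (inv_mem hx.1) x hx.1, inv_mul_cancel, hPone])]
      exact hx.2.inv_left
  have hcore : Core Fr D := by
    refine ⟨hmul, fun π hπ h0 h1 => ⟨hstab _ (Or.inl rfl) π hπ h0 h1, hstab _ (Or.inr rfl) π hπ h0 h1⟩,
      ⟨_, hσ, ?_, ?_, eq_inv_of_mul_eq_one_left (hG _ (Or.inl (Or.inl (Or.inl rfl))))⟩⟩
    · rw [Perm.mul_apply, swap_apply_of_ne_of_ne Fr.ne02 h03, swap_apply_left]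
    · rw [Perm.mul_apply, swap_apply_of_ne_of_ne Fr.ne12 h13, swap_apply_right]
  have hB : ∀ w, w ∈ commonList Fr o3 p f L D → w = 1 := fun w hw => hG w (Or.inl (Or.inl (by
    simpa only [commonList, List.mem_cons, List.mem_nil_iff, or_false] using hw)))
  have q : ∀ i (hi : i < (commonList Fr o3 p f L D).length), (commonList Fr o3 p f L D)[i] = 1 := fun i hi =>
    hB _ (List.getElem_mem hi)
  have hl : (commonList Fr o3 p f L D).length = 12 := rfl
  have hdisj : Commute (D.hh Fr Fr.o2 o3) D.a := commutator_one_iff.mp (q 4 (by omega))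
  have htri : D.b * D.hh Fr Fr.o1 Fr.o2 * D.hh Fr Fr.o2 Fr.o0 = 1 := q 2 (by omega)
  have hbab : D.b * D.a * D.b⁻¹ = D.eta Fr 2 := mul_inv_eq_one.mp (q 3 (by omega))
  have hshare : Commute D.b (D.hh Fr Fr.o1 Fr.o2) := commutator_one_iff.mp (q 1 (by omega))
  have hchA := mul_inv_eq_one.mp (q 7 (by omega))
  have hchB : D.XX Fr Fr.o0 Fr.o1 0 * D.XX Fr Fr.o1 o3 0 =
      D.XX Fr Fr.o0 o3 0 * D.XX Fr Fr.o1 o3 0 * D.XX Fr Fr.o0 Fr.o1 0 := by
    by_cases h4 : m = 3
    · exact mul_inv_eq_one.mp (hG _ (Or.inr (by simp [extraList, h4])))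
    · set o4 : Fin (m + 1) := ⟨4, by omega⟩
      have e24 : Fr.o2 ≠ o4 := Fin.ne_of_val_ne (by norm_num [hFr, altFrame, o4])
      have e34 : o3 ≠ o4 := Fin.ne_of_val_ne (by norm_num [o3, o4])
      have e04 : Fr.o0 ≠ o4 := Fin.ne_of_val_ne (by norm_num [hFr, altFrame, o4])
      have e14 : Fr.o1 ≠ o4 := Fin.ne_of_val_ne (by norm_num [hFr, altFrame, o4])
      have hπ : swap Fr.o2 o3 * swap o3 o4 ∈ Fr.H :=
        mem_alternatingGroup.mpr (by rw [Perm.sign_mul, sign_swap h23, sign_swap e34]; decide)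
      have hb : Base Fr D := ⟨hcore, hshare, htri, hbab, fun k l hkl k0 k1 l0 l1 => by
        obtain ⟨π, p0, p1, p2, p3⟩ := exists_perm4 Fr.ne01 Fr.ne02 h03 Fr.ne12 h13 h23 Fr.ne01
          (Ne.symm k0) (Ne.symm l0) (Ne.symm k1) (Ne.symm l1) hkl
        rcases Fr.mem_or π (swap Fr.o2 o3) (sign_swap h23) with hπ | hπ
        · have := mv_comm (D := D) (π := π) hdisj
          rwa [hcore.mv_hh hπ h23, hcore.mv_a hπ p0 p1, p2, p3] at this
        · have := mv_comm (D := D) (π := π * swap Fr.o2 o3) hdisj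
          rw [hcore.mv_hh hπ h23, hcore.mv_a hπ
              (by rw [Perm.mul_apply, swap_apply_of_ne_of_ne Fr.ne02 h03, p0])
              (by rw [Perm.mul_apply, swap_apply_of_ne_of_ne Fr.ne12 h13, p1]),
            Perm.mul_apply, Perm.mul_apply, swap_apply_left, swap_apply_right, p2, p3, hcore.hh_swap hkl] at this
          simpa using this.inv_left⟩
      have := hb.chain_mv hπ Fr.ne01 Fr.ne12 Fr.ne02 hchA
      simpa only [Perm.mul_apply, swap_apply_left, swap_apply_of_ne_of_ne h23 e24,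
        swap_apply_of_ne_of_ne h03 e04, swap_apply_of_ne_of_ne Fr.ne02 h03, swap_apply_of_ne_of_ne h13 e14,
        swap_apply_of_ne_of_ne Fr.ne12 h13] using this
  have hH : High Fr D o3 :=
    { toCore := hcore, ne03 := h03, ne13 := h13, ne23 := h23, share := hshare, tri := htri, bab := hbab,
      disj0 := hdisj
      row0 := commutator_one_iff.mp (q 5 (by omega))
      col0 := commutator_one_iff.mp (q 6 (by omega))
      chainA := hchA, chainB := hchB
      far := commutator_one_iff.mp (q 8 (by omega)) }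
  have hR : RootRel ω p f D Fr := ⟨hω, hfmap, q 9 (by omega), q 10 (by omega)⟩
  have hgen : Subgroup.closure (insert D.a (insert D.b (D.P '' (Fr.H : Set (Perm (Fin (m + 1))))))) = ⊤ := by
    rw [eq_top_iff, ← PresentedGroup.closure_range_of]
    refine Subgroup.closure_mono ?_
    rintro _ ⟨i, rfl⟩
    refine Fin.addCases (fun i => ?_) (fun i => ?_) i
    · refine Set.mem_insert_of_mem _ (Set.mem_insert_of_mem _ ⟨_, (e (PresentedGroup.of i)).2, ?_⟩)
      rw [hDP _ (e (PresentedGroup.of i)).2, Subtype.coe_eta, e.symm_apply_apply]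
      exact PresentedGroup.toGroup.of _
    · fin_cases i
      · exact Set.mem_insert _ _
      · exact Set.mem_insert_of_mem _ (Set.mem_insert _ _)
  refine ⟨MulEquiv.ofBijective th (hH.bijective (by omega) rfl hR hM hgen ?_), fun i => by
    show th (PresentedGroup.of _) = _
    rw [PresentedGroup.toGroup.of]
    simp [ev, Fin.append_left]⟩
  rw [mul_inv_eq_one.mp (q 11 (by omega))]
  refine list_prod_mem fun g hg => ?_
  obtain ⟨x, -, rfl⟩ := List.mem_map.mp hg
  exact XX_mem x.1.2 _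

/-- A presentation of `SL_{m+1}`, `m + 1 ≥ 4`. -/
theorem exists_pres_high (hm : 3 ≤ m) {l : ℕ} (relsA : Finset (FreeGroup (Fin l)))
    (e : PresentedGroup (↑relsA : Set (FreeGroup (Fin l))) ≃* ↥(alternatingGroup (Fin (m + 1))))
    (S : List (Perm (Fin (m + 1))))
    (hSm : ∀ π ∈ S, π ∈ alternatingGroup (Fin (m + 1)) ∧ π ⟨0, by omega⟩ = ⟨0, by omega⟩ ∧
      π ⟨1, by omega⟩ = ⟨1, by omega⟩)
    (hS : ∀ π ∈ alternatingGroup (Fin (m + 1)), π ⟨0, by omega⟩ = ⟨0, by omega⟩ →
      π ⟨1, by omega⟩ = ⟨1, by omega⟩ → π ∈ Subgroup.closure {x | x ∈ S}) :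
    ∃ rels : Finset (FreeGroup (Fin (l + 2))),
      rels.card ≤ relsA.card + 12 + 2 * S.length + (if m = 3 then 1 else 0) ∧
      Nonempty (PresentedGroup (↑rels : Set (FreeGroup (Fin (l + 2)))) ≃*
        Matrix.SpecialLinearGroup (Fin (m + 1)) F) := by
  obtain ⟨rels, hc, E, -⟩ := exists_pres_high_ev (F := F) hm relsA e S hSm hS
  exact ⟨rels, hc, ⟨E⟩⟩

end Cfsg.Agent.SLPresent
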