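import Cfsg.Agent.Lib.SLPresent.Three
import Cfsg.Agent.Lib.SLPresent.Assemble
import Cfsg.Agent.Lib.AltPresent.Small

/-!
Short presentations of `SL_3`, part 2: four generators and fourteen relations.

* `exists_pres_three`.
-/

set_option autoImplicit false
set_option linter.unusedSimpArgs false

namespace Cfsg.Agent.SLPresent

open Equiv Equiv.Perm Matrix
open Cfsg.Agent.PSL2.Pres (word map_word cj)
open scoped commutatorElement

local notation "tv" => Matrix.SpecialLinearGroup.transvection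

open FreeGroup (of) in
/-- `S_3 = ⟨x, y | x², y³, (xy)²⟩`. -/
theorem exists_pres_perm_three :
    ∃ rels : Finset (FreeGroup (Fin 2)), rels.card ≤ 3 ∧
      Nonempty (PresentedGroup (↑rels : Set (FreeGroup (Fin 2))) ≃* Perm (Fin 3)) := by
  classical
  obtain ⟨rels, hrels⟩ : ∃ R : Finset (FreeGroup (Fin 2)),
      R = {of 0 * of 0, of 1 ^ 3, of 0 * of 1 * of 0 * of 1} := ⟨_, rfl⟩
  refine ⟨rels, hrels ▸ Finset.card_le_three, ?_⟩
  let a : Perm (Fin 3) := swap 0 1
  let b : Perm (Fin 3) := finRotate 3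
  have hrel : ∀ r ∈ rels, FreeGroup.lift ![a, b] r = 1 := by
    rw [hrels]
    simp only [Finset.mem_insert, Finset.mem_singleton, forall_eq_or_imp, forall_eq, map_pow, map_mul,
      FreeGroup.lift_apply_of, Matrix.cons_val_zero, Matrix.cons_val_one, a, b]
    decide +kernel
  have hgen : Subgroup.closure (Set.range ![a, b]) = ⊤ := by
    rw [AltPresent.pair_range]
    exact AltPresent.closure_eq_top_of_words _ _ 4 (by decide +kernel)
  set x : PresentedGroup (↑rels : Set (FreeGroup (Fin 2))) := PresentedGroup.of 0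
  set y : PresentedGroup (↑rels : Set (FreeGroup (Fin 2))) := PresentedGroup.of 1
  have hx : x * x = 1 := PresentedGroup.one_of_mem (x := of 0 * of 0) (by simp [hrels])
  have hy : y ^ 3 = 1 := PresentedGroup.one_of_mem (x := of 1 ^ 3) (by simp [hrels])
  have hxy : x * y * x * y = 1 :=
    PresentedGroup.one_of_mem (x := of 0 * of 1 * of 0 * of 1) (by simp [hrels])
  obtain ⟨hf, hc⟩ := AltPresent.zpowers_finite_card (by norm_num) hy
  obtain ⟨hf', hc'⟩ := AltPresent.card_le_of_involution x {y} (Subgroup.zpowers y) hf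
    (by rw [eq_top_iff, ← PresentedGroup.closure_range_of, AltPresent.pair_range])
    (by simp) hx (by
      rintro q rfl
      rw [eq_inv_of_mul_eq_one_left hxy]
      exact inv_mem (Subgroup.mem_zpowers _))
  obtain ⟨e, -⟩ := AltPresent.exists_iso_of_card rels ![a, b] hrel hgen hf' (by
    rw [Nat.card_eq_fintype_card (α := Perm (Fin 3)), Fintype.card_perm, Fintype.card_fin]
    calc _ ≤ 2 * 3 := hc'.trans (Nat.mul_le_mul_left 2 hc)
      _ = Nat.factorial 3 := rfl)
  exact ⟨e⟩

variable {F : Type*} [Field F]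

/-- Signed permutation matrices in `SL_3`. -/
def permSL3 (F : Type*) [Field F] : Perm (Fin 3) →* Matrix.SpecialLinearGroup (Fin 3) F :=
  MonoidHom.mk' (fun π => ⟨((Perm.sign π : ℤ) : F) • (π⁻¹).permMatrix F, by
    rw [Matrix.det_smul, Matrix.det_permutation, Perm.sign_inv, Fintype.card_fin]
    rcases Int.units_eq_one_or (Perm.sign π) with h | h <;> simp [h] <;> norm_num⟩)
    fun π ρ => Subtype.ext (by
      show ((Perm.sign (π * ρ) : ℤ) : F) • (π * ρ)⁻¹.permMatrix F =
        (((Perm.sign π : ℤ) : F) • π⁻¹.permMatrix F) * (((Perm.sign ρ : ℤ) : F) • ρ⁻¹.permMatrix F)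
      rw [Matrix.smul_mul, Matrix.mul_smul, smul_smul, _root_.mul_inv_rev, Matrix.permMatrix_mul, Perm.sign_mul,
        Units.val_mul, Int.cast_mul])

/-- The frame on three points with all permutations. -/
def frame3 : Frame (Fin 3) where
  H := ⊤
  hH := le_top
  o0 := 0
  o1 := 1
  o2 := 2
  ne01 := by decide
  ne02 := by decide
  ne12 := by decide
  trans2 i j hij := by
    have h : ∀ i j : Fin 3, i ≠ j → ∃ π : Perm (Fin 3), π 0 = i ∧ π 1 = j := by decide +kernel
    obtain ⟨π, hπ⟩ := h i j hij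
    exact ⟨π, trivial, hπ⟩

/-- The eight common relations. -/
noncomputable def lowList {G : Type*} [Group G] (Fr : Frame (Fin 3)) (p : ℕ)
    (f : Polynomial ℤ) (L : List ({ij : Fin 3 × Fin 3 // ij.1 ≠ ij.2} × ℕ))
    (D : Dat (Fin 3) G) : List G :=
  [D.mv (swap Fr.o0 Fr.o1) D.b * D.b,
    ⁅D.b, D.hh Fr Fr.o1 Fr.o2⁆,
    D.b * D.hh Fr Fr.o1 Fr.o2 * D.hh Fr Fr.o2 Fr.o0,
    D.b * D.a * D.b⁻¹ * (D.eta Fr 2)⁻¹,
    ⁅D.XX Fr Fr.o0 Fr.o2 0, D.XX Fr Fr.o1 Fr.o2 0⁆,
    D.XX Fr Fr.o0 Fr.o1 0 * D.XX Fr Fr.o1 Fr.o2 0 *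
      (D.XX Fr Fr.o0 Fr.o2 0 * D.XX Fr Fr.o1 Fr.o2 0 * D.XX Fr Fr.o0 Fr.o1 0)⁻¹,
    word D.a (D.hh Fr Fr.o1 Fr.o2)⁻¹ f,
    D.b * D.P (swap Fr.o0 Fr.o1) * ((L.map fun e => D.XX Fr e.1.1.1 e.1.1.2 (e.2 : ℤ)).prod)⁻¹]

/-- Three more relations: cubes spanning, or four elements. -/
noncomputable def moreList {G : Type*} [Group G] (Fr : Frame (Fin 3)) (four : Prop) [Decidable four] (p : ℕ)
    (g : Polynomial ℤ) (D : Dat (Fin 3) G) : List G :=
  if four then
    [D.a * D.a, ⁅D.XX Fr Fr.o0 Fr.o2 0, D.XX Fr Fr.o1 Fr.o2 1⁆,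
      D.XX Fr Fr.o0 Fr.o1 0 * D.XX Fr Fr.o1 Fr.o2 1 *
        (D.XX Fr Fr.o0 Fr.o2 1 * D.XX Fr Fr.o1 Fr.o2 1 * D.XX Fr Fr.o0 Fr.o1 0)⁻¹]
  else
    [D.a ^ p, ⁅D.XX Fr Fr.o0 Fr.o1 0, D.XX Fr Fr.o0 Fr.o2 0⁆,
      D.eta Fr 1 * (word D.a ((D.hh Fr Fr.o1 Fr.o2)⁻¹ ^ 3) g)⁻¹]

theorem lowList_map {G G' : Type*} [Group G] [Group G'] (φ : G →* G') (Fr : Frame (Fin 3)) (p : ℕ)
    (f : Polynomial ℤ) (L : List ({ij : Fin 3 × Fin 3 // ij.1 ≠ ij.2} × ℕ)) (D : Dat (Fin 3) G) :
    (lowList Fr p f L D).map φ = lowList Fr p f L (D.map φ) := by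
  have hP : ∀ π, φ (D.P π) = (D.map φ).P π := fun _ => rfl
  have ha : φ D.a = (D.map φ).a := rfl
  have hb : φ D.b = (D.map φ).b := rfl
  simp only [lowList, List.map_cons, List.map_nil, map_mul, map_inv, map_pow, map_commutatorElement, D.map_mv φ,
    D.map_hh Fr φ, D.map_eta Fr φ, D.map_XX Fr φ, map_word, map_list_prod, List.map_map, hP, ha, hb,
    Function.comp_def]

theorem moreList_map {G G' : Type*} [Group G] [Group G'] (φ : G →* G') (Fr : Frame (Fin 3)) (four : Prop)
    [Decidable four] (p : ℕ) (g : Polynomial ℤ) (D : Dat (Fin 3) G) :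
    (moreList Fr four p g D).map φ = moreList Fr four p g (D.map φ) := by
  have ha : φ D.a = (D.map φ).a := rfl
  unfold moreList
  split_ifs <;>
  simp only [List.map_cons, List.map_nil, map_mul, map_inv, map_pow, map_commutatorElement,
    D.map_hh Fr φ, D.map_eta Fr φ, D.map_XX Fr φ, map_word, ha]

/-- The relations hold in SL. -/
theorem low_hold {Fr : Frame (Fin 3)} (hH : Fr.H = ⊤) (hall : ∀ k, k = Fr.o0 ∨ k = Fr.o1 ∨ k = Fr.o2)
    {ω : Fˣ} {p : ℕ} [CharP F p] {f g : Polynomial ℤ} {four : Prop} [Decidable four]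
    (hf : Polynomial.aeval (ω : F) f = 0) (hg : ¬four → Polynomial.aeval ((ω : F) ^ 3) g = (ω : F))
    (h2 : four → (2 : F) = 0)
    {D : Dat (Fin 3) (Matrix.SpecialLinearGroup (Fin 3) F)}
    (M : Model (MonoidHom.id _) ω D Fr) {L : List ({ij : Fin 3 × Fin 3 // ij.1 ≠ ij.2} × ℕ)}
    (hL : (L.map fun e => tv e.1.2 ((ω : F) ^ e.2)).prod = D.b * D.P (swap Fr.o0 Fr.o1)) :
    ∀ w ∈ lowList Fr p f L D ++ moreList Fr four p g D, w = 1 := by
  obtain ⟨n01, n02, n12⟩ := And.intro Fr.ne01 (And.intro Fr.ne02 Fr.ne12)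
  have hω : (ω : F) ≠ 0 := ω.ne_zero
  have cb : (D.b : Matrix (Fin 3) (Fin 3) F) = Matrix.diagonal (hd (ω : F) Fr.o0 Fr.o1) := M.th_b
  have ca : D.a = tv n01 1 := Subtype.ext M.th_a
  have hh : ∀ {i j}, i ≠ j →
      (D.hh Fr i j : Matrix (Fin 3) (Fin 3) F) = Matrix.diagonal (hd (ω : F) i j) := fun h => M.th_hh h
  have XX : ∀ {i j} (h : i ≠ j) (k : ℤ), D.XX Fr i j k = tv h ((ω : F) ^ k) := fun h k => M.th_XX h k
  have mv : ∀ {π}, π ∈ Fr.H → ∀ g, (D.mv π g : Matrix (Fin 3) (Fin 3) F) =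
      (g : Matrix (Fin 3) (Fin 3) F).submatrix ⇑(π⁻¹) ⇑(π⁻¹) := fun h g => M.th_mv h g
  have hchain : ∀ k : ℤ, D.XX Fr Fr.o0 Fr.o1 0 * D.XX Fr Fr.o1 Fr.o2 k *
      (D.XX Fr Fr.o0 Fr.o2 k * D.XX Fr Fr.o1 Fr.o2 k * D.XX Fr Fr.o0 Fr.o1 0)⁻¹ = 1 := fun k => by
    rw [mul_inv_eq_one, XX n01, XX n12, XX n02, zpow_zero]
    simpa only [one_mul] using tv_chain (m := 2) n01 n12 n02 (1 : F) ((ω : F) ^ k)
  intro w hw
  simp only [List.mem_append] at hw
  rcases hw with hw | hw
  · simp only [lowList, List.mem_cons, List.mem_nil_iff, or_false] at hw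
    rcases hw with rfl | rfl | rfl | rfl | rfl | rfl | rfl | rfl
    · apply Subtype.ext
      rw [Matrix.SpecialLinearGroup.coe_mul, Matrix.SpecialLinearGroup.coe_one, mv (hH ▸ Subgroup.mem_top _), cb,
        diagonal_submatrix, Matrix.diagonal_mul_diagonal, ← Matrix.diagonal_one]
      congr 1
      funext l
      simp only [hd, swap_inv]
      rcases hall l with rfl | rfl | rfl <;>
        simp [n01, n02, n12, n01.symm, n02.symm, n12.symm, hω, swap_apply_def]
    · rw [commutator_one_iff]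
      apply Subtype.ext
      rw [Matrix.SpecialLinearGroup.coe_mul, Matrix.SpecialLinearGroup.coe_mul, cb, hh n12,
        Matrix.diagonal_mul_diagonal, Matrix.diagonal_mul_diagonal]
      congr 1; funext l; exact mul_comm _ _
    · apply Subtype.ext
      rw [Matrix.SpecialLinearGroup.coe_mul, Matrix.SpecialLinearGroup.coe_mul, cb, hh n12, hh n02.symm,
        Matrix.diagonal_mul_diagonal, Matrix.diagonal_mul_diagonal, Matrix.SpecialLinearGroup.coe_one,
        ← Matrix.diagonal_one]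
      congr 1
      funext l
      simp only [hd]
      rcases hall l with rfl | rfl | rfl <;>
        simp [n01, n02, n12, n01.symm, n02.symm, n12.symm, hω]
    · rw [mul_inv_eq_one, ca, diagonal_conj_transvection cb n01 (by simp [hd, n01.symm, hω])]
      refine Eq.trans ?_ (M.th_eta 2).symm
      congr 1
      simp [hd, n01.symm]
      rw [pow_two]
    · rw [commutator_one_iff, XX n02, XX n12]; exact tv_commute (m := 2) n02 n12 n02 n12.symm _ _
    · exact hchain 0
    · have := M.th_word 1 f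
      rw [pow_one, pow_one, hf] at this
      exact this.trans (map_one (tvHom (F := F) n01))
    · rw [mul_inv_eq_one, ← hL]
      congr 1
      exact List.map_congr_left fun e _ => by rw [XX e.1.2, zpow_natCast]
  · unfold moreList at hw
    split_ifs at hw with h4
    · simp only [List.mem_cons, List.mem_nil_iff, or_false] at hw
      rcases hw with rfl | rfl | rfl
      · rw [ca, ← sq, ← zpow_natCast, tv_zpow, Int.cast_natCast, Nat.cast_ofNat, h2 h4, zero_mul]
        exact map_one (tvHom (F := F) n01)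
      · rw [commutator_one_iff, XX n02, XX n12]; exact tv_commute (m := 2) n02 n12 n02 n12.symm _ _
      · exact hchain 1
    · simp only [List.mem_cons, List.mem_nil_iff, or_false] at hw
      rcases hw with rfl | rfl | rfl
      · rw [ca, ← zpow_natCast, tv_zpow, Int.cast_natCast, CharP.cast_eq_zero, zero_mul]
        exact map_one (tvHom (F := F) n01)
      · rw [commutator_one_iff, XX n01, XX n02]; exact tv_commute (m := 2) n01 n02 n02 n01.symm _ _
      · rw [mul_inv_eq_one]
        have h1 : word D.a ((D.hh Fr Fr.o1 Fr.o2)⁻¹ ^ 3) g = tv n01 (Polynomial.aeval ((ω : F) ^ 3) g) :=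
          M.th_word 3 g
        rw [h1, hg h4]
        refine (M.th_eta 1).trans ?_
        rw [zpow_one]

variable [Finite F]

/-- A presentation of `SL_3` with four generators and fourteen relations. -/
theorem exists_pres_three :
    ∃ rels : Finset (FreeGroup (Fin 4)), rels.card ≤ 14 ∧
      Nonempty (PresentedGroup (↑rels : Set (FreeGroup (Fin 4))) ≃* Matrix.SpecialLinearGroup (Fin 3) F) := by
  classical
  obtain ⟨p, hp⟩ := CharP.exists F
  haveI : Fact p.Prime := ⟨CharP.char_is_prime F p⟩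
  obtain ⟨ω, hω, -⟩ := PSL2.Pres.exists_generator (F := F)
  obtain ⟨f, hfmap, hf⟩ := PSL2.Pres.exists_lift_minpoly (p := p) (ω : F)
  set four : Prop := Nat.card F = 4 with hfour
  have hgex : ∃ g : Polynomial ℤ, ¬four → Polynomial.aeval ((ω : F) ^ 3) g = (ω : F) := by
    by_cases h : four
    · exact ⟨0, fun h' => absurd h h'⟩
    · obtain ⟨g, hg⟩ := aeval_pow_surjective ω hω 3 (Or.inr ⟨rfl, h⟩) (ω : F)
      exact ⟨g, fun _ => hg⟩
  obtain ⟨g, hg⟩ := hgex
  have h2 : four → (2 : F) = 0 := fun h => by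
    haveI : Fintype F := Fintype.ofFinite F
    have h' : ((Fintype.card F : ℕ) : F) = 0 := Nat.cast_card_eq_zero F
    rw [← Nat.card_eq_fintype_card, show Nat.card F = 2 * 2 from h, Nat.cast_mul] at h'
    exact mul_self_eq_zero.mp h'
  obtain ⟨relsA, hA, ⟨e⟩⟩ := exists_pres_perm_three
  set Fr := frame3 with hFr
  have hall : ∀ k : Fin 3, k = Fr.o0 ∨ k = Fr.o1 ∨ k = Fr.o2 := by
    show ∀ k : Fin 3, k = (0 : Fin 3) ∨ k = (1 : Fin 3) ∨ k = (2 : Fin 3)
    decide
  let aS : Matrix.SpecialLinearGroup (Fin 3) F := tv Fr.ne01 1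
  let bS : Matrix.SpecialLinearGroup (Fin 3) F := Matrix.SpecialLinearGroup.diag2n Fr.ne01 (ω : F) ω.ne_zero
  obtain ⟨L, hL⟩ := exists_transvection_word ω hω (bS * permSL3 F (swap Fr.o0 Fr.o1))
  let inl : FreeGroup (Fin 2) →* FreeGroup (Fin (2 + 2)) := FreeGroup.map (Fin.castAdd 2)
  choose wd hwd using fun π : Perm (Fin 3) =>
    PresentedGroup.mk_surjective (↑relsA : Set (FreeGroup (Fin 2))) (e.symm π)
  let DF : Dat (Fin 3) (FreeGroup (Fin (2 + 2))) :=
    ⟨fun π => inl (wd π), FreeGroup.of (Fin.natAdd 2 0), FreeGroup.of (Fin.natAdd 2 1)⟩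
  let R : List (FreeGroup (Fin (2 + 2))) := lowList Fr p f L DF ++ moreList Fr four p g DF
  let rels : Finset (FreeGroup (Fin (2 + 2))) := relsA.image inl ∪ R.toFinset
  refine ⟨rels, ?_, ?_⟩
  · refine (Finset.card_union_le _ _).trans ((add_le_add Finset.card_image_le (List.toFinset_card_le R)).trans ?_)
    simp only [R, List.length_append, lowList, moreList]
    split_ifs <;> simp <;> omega
  let ev : Fin (2 + 2) → Matrix.SpecialLinearGroup (Fin 3) F :=
    Fin.append (fun i => permSL3 F (e (PresentedGroup.of i))) ![aS, bS]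
  have hinl : ∀ w, FreeGroup.lift ev (inl w) = permSL3 F (e (PresentedGroup.mk _ w)) := by
    intro w
    have : (FreeGroup.lift ev).comp inl = ((permSL3 F).comp e.toMonoidHom).comp (PresentedGroup.mk _) :=
      FreeGroup.ext_hom _ _ fun i => by
        show FreeGroup.lift ev (inl (FreeGroup.of i)) = permSL3 F (e (PresentedGroup.of i))
        simp only [inl, FreeGroup.map.of, FreeGroup.lift_apply_of, ev, Fin.append_left]
    exact DFunLike.congr_fun this w
  have hSM : Model (MonoidHom.id _) ω (DF.map (FreeGroup.lift ev)) Fr := by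
    refine ⟨fun π _ => ⟨((Perm.sign π : ℤ) : F), ?_⟩, ?_, ?_⟩
    · show ((FreeGroup.lift ev (inl (wd π))) : Matrix (Fin 3) (Fin 3) F) = _
      rw [hinl, hwd π, e.apply_symm_apply]; rfl
    · show ((FreeGroup.lift ev (FreeGroup.of (Fin.natAdd 2 0))) : Matrix (Fin 3) (Fin 3) F) = _
      simp only [FreeGroup.lift_apply_of, ev, Fin.append_right]; rfl
    · show ((FreeGroup.lift ev (FreeGroup.of (Fin.natAdd 2 1))) : Matrix (Fin 3) (Fin 3) F) = _
      simp only [FreeGroup.lift_apply_of, ev, Fin.append_right]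
      exact Matrix.SpecialLinearGroup.diag2n_coe Fr.ne01 _ ω.ne_zero
  have hrels : ∀ r ∈ (↑rels : Set (FreeGroup (Fin (2 + 2)))), FreeGroup.lift ev r = 1 := by
    intro r hr
    simp only [rels, Finset.coe_union, Finset.coe_image, Set.mem_union, Set.mem_image, Finset.mem_coe,
      List.mem_toFinset] at hr
    rcases hr with ⟨r, hr, rfl⟩ | hr
    · rw [hinl, PresentedGroup.one_of_mem (Finset.mem_coe.mpr hr), map_one, map_one]
    · have h1 := low_hold (Fr := Fr) rfl hall (p := p) (four := four) hf hg h2 hSM (L := L) (by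
        rw [hL]
        show _ = FreeGroup.lift ev (FreeGroup.of _) * FreeGroup.lift ev (inl (wd _))
        rw [hinl, hwd, e.apply_symm_apply]
        simp only [FreeGroup.lift_apply_of, ev, Fin.append_right]
        rfl)
      refine h1 _ ?_
      rw [← lowList_map, ← moreList_map, ← List.map_append]
      exact List.mem_map_of_mem hr
  let th := PresentedGroup.toGroup hrels
  let jA : PresentedGroup (↑relsA : Set (FreeGroup (Fin 2))) →*
      PresentedGroup (↑rels : Set (FreeGroup (Fin (2 + 2)))) :=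
    PresentedGroup.toGroup (f := fun i => PresentedGroup.of (Fin.castAdd 2 i)) fun r hr => by
      have : FreeGroup.lift (fun i => (PresentedGroup.of (Fin.castAdd 2 i) :
          PresentedGroup (↑rels : Set (FreeGroup (Fin (2 + 2)))))) = (PresentedGroup.mk _).comp inl :=
        FreeGroup.ext_hom _ _ fun i => by simp [inl]; rfl
      rw [this]
      exact PresentedGroup.one_of_mem (Finset.mem_union_left _ (Finset.mem_image_of_mem _ hr))
  let D := DF.map (PresentedGroup.mk (↑rels : Set (FreeGroup (Fin (2 + 2)))))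
  have hDP : ∀ π, D.P π = jA (e.symm π) := fun π => by
    rw [← hwd π]
    have : jA.comp (PresentedGroup.mk _) = (PresentedGroup.mk _).comp inl :=
      FreeGroup.ext_hom _ _ fun i => by
        show jA (PresentedGroup.of i) = _
        simp [inl, jA]; rfl
    exact (DFunLike.congr_fun this (wd π)).symm
  have hthm : ∀ w, th (PresentedGroup.mk _ w) = FreeGroup.lift ev w := fun w => rfl
  have hM : Model th ω D Fr := ⟨fun π hπ => by
      obtain ⟨c, hc⟩ := hSM.th_P π hπ
      exact ⟨c, (congrArg Subtype.val (hthm _)).trans hc⟩,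
    (congrArg Subtype.val (hthm _)).trans hSM.th_a, (congrArg Subtype.val (hthm _)).trans hSM.th_b⟩
  have hG : ∀ r ∈ lowList Fr p f L D ++ moreList Fr four p g D, r = 1 := by
    intro r hr
    rw [← lowList_map, ← moreList_map, ← List.map_append] at hr
    obtain ⟨r, hr', rfl⟩ := List.mem_map.mp hr
    exact PresentedGroup.one_of_mem (Finset.mem_union_right _ (List.mem_toFinset.mpr hr'))
  have q : ∀ i (hi : i < (lowList Fr p f L D).length), (lowList Fr p f L D)[i] = 1 := fun i hi =>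
    hG _ (List.mem_append_left _ (List.getElem_mem hi))
  have hlen : (lowList Fr p f L D).length = 8 := rfl
  have hmul : ∀ x y, D.P (x * y) = D.P x * D.P y := fun x y => by
    rw [hDP x, hDP y, hDP (x * y), ← map_mul, ← map_mul]
  have hfix : ∀ π : Perm (Fin 3), π Fr.o0 = Fr.o0 → π Fr.o1 = Fr.o1 → π = 1 := by
    show ∀ π : Perm (Fin 3), π (0 : Fin 3) = 0 → π (1 : Fin 3) = 1 → π = 1
    decide +kernel
  have hcore : Core Fr D := by
    refine ⟨fun x _ y _ => hmul x y, fun π _ h0 h1 => ?_,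
      ⟨_, Subgroup.mem_top _, swap_apply_left _ _, swap_apply_right _ _, eq_inv_of_mul_eq_one_left (q 0 (by omega))⟩⟩
    rw [hfix π h0 h1, hDP, map_one, map_one]
    exact ⟨Commute.one_left _, Commute.one_left _⟩
  have hLow : Low Fr D :=
    { toCore := hcore, full := rfl, three := hall
      share := commutator_one_iff.mp (q 1 (by omega))
      tri := q 2 (by omega)
      bab := mul_inv_eq_one.mp (q 3 (by omega))
      col0 := commutator_one_iff.mp (q 4 (by omega))
      chain0 := mul_inv_eq_one.mp (q 5 (by omega)) }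
  have hgen : Subgroup.closure (insert D.a (insert D.b (D.P '' (Fr.H : Set (Perm (Fin 3)))))) = ⊤ := by
    rw [eq_top_iff, ← PresentedGroup.closure_range_of]
    refine Subgroup.closure_mono ?_
    rintro _ ⟨i, rfl⟩
    refine Fin.addCases (fun i => ?_) (fun i => ?_) i
    · refine Set.mem_insert_of_mem _ (Set.mem_insert_of_mem _ ⟨e (PresentedGroup.of i), trivial, ?_⟩)
      rw [hDP, e.symm_apply_apply]
      exact PresentedGroup.toGroup.of _
    · fin_cases i
      · exact Set.mem_insert _ _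
      · exact Set.mem_insert_of_mem _ (Set.mem_insert _ _)
  have hW : D.b * D.P (swap Fr.o0 Fr.o1) ∈ rootGroup Fr D := by
    rw [mul_inv_eq_one.mp (q 7 (by omega))]
    refine list_prod_mem fun g hg => ?_
    obtain ⟨x, -, rfl⟩ := List.mem_map.mp hg
    exact XX_mem x.1.2 _
  have hmore : ∀ w ∈ moreList Fr four p g D, w = 1 := fun w hw => hG w (List.mem_append_right _ hw)
  refine ⟨MulEquiv.ofBijective th ?_⟩
  by_cases h4 : four
  · simp only [moreList, if_pos h4, List.mem_cons, List.mem_nil_iff, or_false, forall_eq_or_imp, forall_eq] at hmore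
    obtain ⟨hsq, hc1, hch1⟩ := hmore
    have hp2 : p = 2 := by
      have : ((2 : ℕ) : F) = 0 := by rw [Nat.cast_ofNat]; exact h2 h4
      rw [CharP.cast_eq_zero_iff F p] at this
      exact (Nat.prime_dvd_prime_iff_eq Fact.out Nat.prime_two).mp this
    exact LowFour.bijective ⟨hLow, hsq, commutator_one_iff.mp hc1, mul_inv_eq_one.mp hch1⟩ (by norm_num) h4
      ⟨hω, hfmap, by subst hp2; rw [pow_two]; exact hsq, q 6 (by omega)⟩ hM hgen hW
  · simp only [moreList, if_neg h4, List.mem_cons, List.mem_nil_iff, or_false, forall_eq_or_imp, forall_eq] at hmore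
    obtain ⟨hpow, hrow, hW1⟩ := hmore
    exact LowGen.bijective (g := g) ⟨hLow, commutator_one_iff.mp hrow, mul_inv_eq_one.mp hW1⟩ (by norm_num) h4
      ⟨hω, hfmap, hpow, q 6 (by omega)⟩ hM hgen hW

end Cfsg.Agent.SLPresent
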