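import Cfsg.Agent.Lib.SLPresent.Assemble
import Cfsg.Agent.Lib.AltPresent.Final

/-!
Short presentations of `SL_n`, part 7: the numbers of generators and relations.

* `exists_pad`: redundant generators; `exists_mod_center`: dividing by a cyclic centre.
* `sl_four`, `sl_five`, `sl_high`: SL_4 (4 gens, 16 rels), SL_5 (5, 21), SL_n, n ≥ 6 (5, 23).
-/

set_option autoImplicit false
set_option linter.unusedSimpArgs false

namespace Cfsg.Agent.SLPresent

open Equiv Equiv.Perm

/-- Redundant generators, one relation each. -/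
theorem exists_pad {T : Type*} [Group T] [Finite T] {l : ℕ} (r : ℕ) (rels : Finset (FreeGroup (Fin l)))
    (e : PresentedGroup (↑rels : Set (FreeGroup (Fin l))) ≃* T) :
    ∃ rels' : Finset (FreeGroup (Fin (l + r))), rels'.card ≤ rels.card + r ∧
      Nonempty (PresentedGroup (↑rels' : Set (FreeGroup (Fin (l + r)))) ≃* T) := by
  classical
  let f : Fin (l + r) → T := Fin.append (fun i => e (PresentedGroup.of i)) fun _ => 1
  have hf : Subgroup.closure (Set.range f) = ⊤ := by
    rw [eq_top_iff, ← Subgroup.map_top_of_surjective e.toMonoidHom e.surjective,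
      ← PresentedGroup.closure_range_of, MonoidHom.map_closure]
    refine Subgroup.closure_mono ?_
    rintro _ ⟨_, ⟨i, rfl⟩, rfl⟩
    exact ⟨Fin.castAdd r i, by simp [f, Fin.append_left]⟩
  obtain ⟨rels', hc, e', -⟩ := AltPresent.exists_rels_of_gens rels e f hf
    (Fin.append (fun i => some i) fun _ => none)
    (fun j i h => by
      induction j using Fin.addCases with
      | left j =>
        simp only [Fin.append_left, Option.some.injEq] at h
        subst h
        simp [f, Fin.append_left]
      | right j => simp [Fin.append_right] at h)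
    (fun j j' i h h' => by
      induction j using Fin.addCases with
      | left j =>
        induction j' using Fin.addCases with
        | left j' => simp [Fin.append_left] at h h'; rw [h, h']
        | right j' => simp [Fin.append_right] at h'
      | right j => simp [Fin.append_right] at h)
  refine ⟨rels', hc.trans (Nat.add_le_add_left ?_ _), ⟨e'⟩⟩
  refine (Finset.card_le_card (t := Finset.univ.image (Fin.natAdd l)) ?_).trans
    (Finset.card_image_le.trans (by simp))
  intro j hj
  induction j using Fin.addCases with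
  | left j => simp [Fin.append_left] at hj
  | right j => simp

/-- One relation divides by a cyclic centre. -/
theorem exists_mod_center {T : Type*} [Group T] (hc : IsCyclic (Subgroup.center T)) {l : ℕ}
    (rels : Finset (FreeGroup (Fin l))) (e : PresentedGroup (↑rels : Set (FreeGroup (Fin l))) ≃* T) :
    ∃ rels' : Finset (FreeGroup (Fin l)), rels'.card ≤ rels.card + 1 ∧
      Nonempty (PresentedGroup (↑rels' : Set (FreeGroup (Fin l))) ≃* T ⧸ Subgroup.center T) := by
  classical
  obtain ⟨z, hz⟩ := hc.exists_generator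
  obtain ⟨w, hw⟩ := PresentedGroup.mk_surjective (↑rels : Set (FreeGroup (Fin l))) (e.symm (z : T))
  let rels' := insert w rels
  refine ⟨rels', Finset.card_insert_le _ _, ?_⟩
  let q := (QuotientGroup.mk' (Subgroup.center T)).comp e.toMonoidHom
  have h1 : ∀ r ∈ (↑rels' : Set (FreeGroup (Fin l))), FreeGroup.lift (fun i => q (PresentedGroup.of i)) r = 1 := by
    intro r hr
    have hl : FreeGroup.lift (fun i => q (PresentedGroup.of i)) = q.comp (PresentedGroup.mk _) :=
      FreeGroup.ext_hom _ _ fun i => by simp; rfl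
    rw [hl, MonoidHom.comp_apply]
    simp only [rels', Finset.coe_insert, Set.mem_insert_iff, Finset.mem_coe] at hr
    rcases hr with rfl | hr
    · rw [hw, MonoidHom.comp_apply, MulEquiv.coe_toMonoidHom, e.apply_symm_apply]
      exact (QuotientGroup.eq_one_iff _).mpr z.2
    · rw [PresentedGroup.one_of_mem (Finset.mem_coe.mpr hr), map_one]
  let π : PresentedGroup (↑rels : Set (FreeGroup (Fin l))) →* PresentedGroup (↑rels' : Set (FreeGroup (Fin l))) :=
    PresentedGroup.toGroup (f := PresentedGroup.of) fun r hr => by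
      have hl : FreeGroup.lift (PresentedGroup.of (rels := (↑rels' : Set (FreeGroup (Fin l))))) =
          PresentedGroup.mk _ := FreeGroup.ext_hom _ _ fun i => by simp; rfl
      rw [hl]
      exact PresentedGroup.one_of_mem (Finset.mem_insert_of_mem hr)
  have hπ : ∀ x, π (PresentedGroup.mk _ x) = PresentedGroup.mk _ x := fun x => by
    have : π.comp (PresentedGroup.mk _) = PresentedGroup.mk _ := FreeGroup.ext_hom _ _ fun i => by
      show π (PresentedGroup.of i) = PresentedGroup.of i
      simp [π]
    exact DFunLike.congr_fun this x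
  have hker : Subgroup.center T ≤ (π.comp e.symm.toMonoidHom).ker := by
    intro t ht
    obtain ⟨k, hk⟩ := hz ⟨t, ht⟩
    rw [MonoidHom.mem_ker, show t = (z : T) ^ k from congrArg Subtype.val hk.symm, map_zpow, MonoidHom.comp_apply,
      MulEquiv.coe_toMonoidHom, ← hw, hπ, PresentedGroup.one_of_mem (Finset.mem_insert_self _ _), one_zpow]
  let back := QuotientGroup.lift (Subgroup.center T) (π.comp e.symm.toMonoidHom) hker
  refine ⟨MonoidHom.toMulEquiv (PresentedGroup.toGroup h1) back ?_ ?_⟩
  · refine PresentedGroup.ext fun i => ?_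
    rw [MonoidHom.comp_apply, PresentedGroup.toGroup.of]
    show back (QuotientGroup.mk (e (PresentedGroup.of i))) = _
    simp only [back, QuotientGroup.lift_mk, MonoidHom.comp_apply, MulEquiv.coe_toMonoidHom, e.symm_apply_apply]
    exact PresentedGroup.toGroup.of _
  · refine QuotientGroup.monoidHom_ext _ ?_
    ext t
    obtain ⟨y, rfl⟩ := e.surjective t
    obtain ⟨x, rfl⟩ := PresentedGroup.mk_surjective _ y
    show PresentedGroup.toGroup h1 (π (e.symm (e _))) = _
    rw [e.symm_apply_apply, hπ]
    have : (PresentedGroup.toGroup h1).comp (PresentedGroup.mk _) = q.comp (PresentedGroup.mk _) :=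
      FreeGroup.ext_hom _ _ fun i => by
        show PresentedGroup.toGroup h1 (PresentedGroup.of i) = q (PresentedGroup.of i)
        exact PresentedGroup.toGroup.of _
    exact DFunLike.congr_fun this x

/-- Generators of a small or two-generated alternating group. -/
theorem exists_alt_gens (k : ℕ) :
    ∃ S : List (Perm (Fin k)), S.length ≤ (if k ≤ 2 then 0 else if k = 3 then 1 else 2) ∧
      (∀ π ∈ S, π ∈ alternatingGroup (Fin k)) ∧
      alternatingGroup (Fin k) ≤ Subgroup.closure {x | x ∈ S} := by
  by_cases h2 : k ≤ 2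
  · refine ⟨[], by simp [h2], by simp, fun x hx => ?_⟩
    have : x = 1 := by interval_cases k <;> (revert x; simp only [Equiv.Perm.mem_alternatingGroup]; decide +kernel)
    rw [this]; exact one_mem _
  by_cases h3 : k = 3
  · subst h3
    refine ⟨[finRotate 3], by simp, by simp <;> decide +kernel, fun x hx => ?_⟩
    have : x = finRotate 3 ^ 0 ∨ x = finRotate 3 ^ 1 ∨ x = finRotate 3 ^ 2 := by
      revert x; simp only [Equiv.Perm.mem_alternatingGroup]; decide +kernel
    rcases this with rfl | rfl | rfl <;> exact pow_mem (Subgroup.subset_closure (by simp)) _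
  have hP : AltPresent.HasPres ↥(alternatingGroup (Fin k)) := by
    by_cases h5 : k < 5
    · exact (AltPresent.hasPres_small h5).2
    · exact ((AltPresent.hasPresThree k (by omega)).2).hasPres
  obtain ⟨rels, -, ⟨e⟩⟩ := hP
  refine ⟨[(e (PresentedGroup.of 0) : Perm (Fin k)), (e (PresentedGroup.of 1) : Perm (Fin k))], by simp [h2, h3],
    fun π hπ => ?_, fun x hx => ?_⟩
  · simp only [List.mem_cons, List.mem_nil_iff, or_false] at hπ
    rcases hπ with rfl | rfl <;> exact SetLike.coe_mem _
  have : (⟨x, hx⟩ : ↥(alternatingGroup (Fin k))) ∈ Subgroup.map e.toMonoidHom ⊤ := by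
    rw [Subgroup.map_top_of_surjective _ e.surjective]; trivial
  rw [← PresentedGroup.closure_range_of, MonoidHom.map_closure] at this
  have := Subgroup.mem_map_of_mem (alternatingGroup (Fin k)).subtype this
  rw [MonoidHom.map_closure] at this
  refine Subgroup.closure_mono ?_ this
  rintro _ ⟨_, ⟨_, ⟨i, rfl⟩, rfl⟩, rfl⟩
  fin_cases i <;> simp

/-- The stabiliser of the first two points. -/
theorem exists_stab_gens {m : ℕ} (hm : 1 ≤ m) :
    ∃ S : List (Perm (Fin (m + 1))), S.length ≤ (if m ≤ 3 then 0 else if m = 4 then 1 else 2) ∧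
      (∀ π ∈ S, π ∈ alternatingGroup (Fin (m + 1)) ∧ π ⟨0, by omega⟩ = ⟨0, by omega⟩ ∧
        π ⟨1, by omega⟩ = ⟨1, by omega⟩) ∧
      ∀ π ∈ alternatingGroup (Fin (m + 1)), π ⟨0, by omega⟩ = ⟨0, by omega⟩ →
        π ⟨1, by omega⟩ = ⟨1, by omega⟩ → π ∈ Subgroup.closure {x | x ∈ S} := by
  classical
  let P : Fin (m + 1) → Prop := fun x => 2 ≤ (x : ℕ)
  let c : Fin (m - 1) ≃ {x // P x} :=
    { toFun := fun i => ⟨⟨(i : ℕ) + 2, by omega⟩, Nat.le_add_left 2 _⟩
      invFun := fun x => ⟨(x.1 : ℕ) - 2, by have := x.2; have := x.1.isLt; simp only [P] at *; omega⟩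
      left_inv := fun i => by simp
      right_inv := fun x => by
        have := x.2; simp only [P] at this
        exact Subtype.ext (Fin.ext (by simp; omega)) }
  let ψ : Perm (Fin (m - 1)) →* Perm (Fin (m + 1)) :=
    (Equiv.Perm.ofSubtype (p := P)).comp c.permCongrHom.toMonoidHom
  have hsign : ∀ ρ, sign (ψ ρ) = sign ρ := fun ρ => by
    show sign (ofSubtype (c.permCongr ρ)) = sign ρ
    rw [sign_ofSubtype, sign_permCongr]
  have hfix : ∀ ρ x, ¬ P x → ψ ρ x = x := fun ρ x hx => ofSubtype_apply_of_not_mem _ hx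
  obtain ⟨S, hlen, hmem, hgen⟩ := exists_alt_gens (m - 1)
  refine ⟨S.map ψ, ?_, ?_, fun π hπ h0 h1 => ?_⟩
  · rw [List.length_map]
    refine hlen.trans (le_of_eq ?_)
    split_ifs <;> omega
  · intro π hπ
    obtain ⟨ρ, hρ, rfl⟩ := List.mem_map.mp hπ
    exact ⟨mem_alternatingGroup.mpr ((hsign ρ).trans (mem_alternatingGroup.mp (hmem ρ hρ))),
      hfix _ _ (by simp [P]), hfix _ _ (by simp [P])⟩
  · have hP : ∀ x, π x ≠ x → P x := by
      intro x hx
      by_contra h
      simp only [P, not_le] at h
      rcases Nat.lt_or_ge (x : ℕ) 1 with h' | h'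
      · exact hx (by rw [show x = ⟨0, by omega⟩ from Fin.ext (by simp only; omega)]; exact h0)
      · exact hx (by rw [show x = ⟨1, by omega⟩ from Fin.ext (by simp only; omega)]; exact h1)
    have hiff : ∀ x, P (π x) ↔ P x := fun x => by
      by_cases hx : π x = x
      · rw [hx]
      · exact ⟨fun _ => hP x hx, fun _ => hP (π x) fun e => hx (π.injective e)⟩
    have e : π = ψ (c.permCongrHom.symm (π.subtypePerm hiff)) := by
      show π = ofSubtype (c.permCongrHom (c.permCongrHom.symm _))
      rw [MulEquiv.apply_symm_apply, ofSubtype_subtypePerm hiff hP]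
    rw [e] at hπ ⊢
    have hin := hgen (mem_alternatingGroup.mpr ((hsign _).symm.trans (mem_alternatingGroup.mp hπ)))
    have := Subgroup.mem_map_of_mem ψ hin
    rw [MonoidHom.map_closure] at this
    refine Subgroup.closure_mono ?_ this
    rintro _ ⟨ρ, hρ, rfl⟩
    exact List.mem_map.mpr ⟨ρ, hρ, rfl⟩

open FreeGroup (of) in
/-- `A_4 = ⟨x, y | x³, y³, (xy)²⟩`. -/
theorem exists_pres_alt_four :
    ∃ rels : Finset (FreeGroup (Fin 2)), rels.card ≤ 3 ∧
      Nonempty (PresentedGroup (↑rels : Set (FreeGroup (Fin 2))) ≃* ↥(alternatingGroup (Fin 4))) := by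
  classical
  obtain ⟨rels, hrels⟩ : ∃ R : Finset (FreeGroup (Fin 2)),
      R = {of 0 ^ 3, of 1 ^ 3, (of 0 * of 1) ^ 2} := ⟨_, rfl⟩
  refine ⟨rels, hrels ▸ Finset.card_le_three, ?_⟩
  let a : ↥(alternatingGroup (Fin 4)) := ⟨swap 0 2 * swap 0 1, Equiv.Perm.mem_alternatingGroup.mpr (by decide)⟩
  let b : ↥(alternatingGroup (Fin 4)) := ⟨swap 0 3 * swap 0 1, Equiv.Perm.mem_alternatingGroup.mpr (by decide)⟩
  have hrel : ∀ r ∈ rels, FreeGroup.lift ![a, b] r = 1 := by
    rw [hrels]
    simp only [Finset.mem_insert, Finset.mem_singleton, forall_eq_or_imp, forall_eq, map_pow, map_mul,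
      FreeGroup.lift_apply_of, Matrix.cons_val_zero, Matrix.cons_val_one, a, b]
    decide +kernel
  have hgen : Subgroup.closure (Set.range ![a, b]) = ⊤ := by
    rw [AltPresent.pair_range]
    exact AltPresent.closure_eq_top_of_words _ _ 4 (by decide +kernel)
  set x : PresentedGroup (↑rels : Set (FreeGroup (Fin 2))) := PresentedGroup.of 0
  set y : PresentedGroup (↑rels : Set (FreeGroup (Fin 2))) := PresentedGroup.of 1
  have hx : x ^ 3 = 1 := PresentedGroup.one_of_mem (x := of 0 ^ 3) (by simp [hrels])
  have hy : y ^ 3 = 1 := PresentedGroup.one_of_mem (x := of 1 ^ 3) (by simp [hrels])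
  have hxy : (x * y) ^ 2 = 1 := PresentedGroup.one_of_mem (x := (of 0 * of 1) ^ 2) (by simp [hrels])
  obtain ⟨hf, hc⟩ := AltPresent.card_closure_le ![x, y] (fun i => by fin_cases i <;> assumption)
    (AltPresent.pair_sq hxy) Finset.univ
  have htop : Subgroup.closure (![x, y] '' ↑(Finset.univ : Finset (Fin 2))) = ⊤ := by
    rw [Finset.coe_univ, Set.image_univ, AltPresent.pair_range, eq_top_iff, ← PresentedGroup.closure_range_of,
      AltPresent.pair_range]
    exact le_rfl
  rw [htop] at hf hc
  rw [Subgroup.coe_top] at hf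
  haveI := Set.finite_univ_iff.mp hf
  rw [Subgroup.card_top] at hc
  simp only [Finset.card_univ, Fintype.card_fin] at hc
  obtain ⟨e, -⟩ := AltPresent.exists_iso_of_card rels ![a, b] hrel hgen inferInstance (by
    have h12 : 12 ≤ Nat.card ↥(alternatingGroup (Fin 4)) := by
      rw [Nat.card_eq_fintype_card]; decide +kernel
    rw [show Nat.factorial (2 + 2) = 24 from rfl] at hc
    omega)
  exact ⟨e⟩

variable {F : Type*} [Field F] [Finite F]

theorem sl_four : ∃ rels : Finset (FreeGroup (Fin 4)), rels.card ≤ 16 ∧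
    Nonempty (PresentedGroup (↑rels : Set (FreeGroup (Fin 4))) ≃* Matrix.SpecialLinearGroup (Fin 4) F) := by
  obtain ⟨relsA, hA, ⟨e⟩⟩ := exists_pres_alt_four
  obtain ⟨S, hlen, hSm, hS⟩ := exists_stab_gens (m := 3) (by norm_num)
  obtain ⟨rels, hc, h⟩ := exists_pres_high (F := F) (m := 3) le_rfl relsA e S hSm hS
  simp at hlen
  exact ⟨rels, by rw [if_pos rfl, hlen] at hc; simp at hc; omega, h⟩

theorem sl_high (m : ℕ) (hm : 4 ≤ m) : ∃ rels : Finset (FreeGroup (Fin 5)),
    rels.card ≤ (if m = 4 then 21 else 23) ∧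
    Nonempty (PresentedGroup (↑rels : Set (FreeGroup (Fin 5))) ≃* Matrix.SpecialLinearGroup (Fin (m + 1)) F) := by
  obtain ⟨relsA, hA, e, -⟩ := (AltPresent.hasPresThree (m + 1) (by omega)).2
  obtain ⟨S, hlen, hSm, hS⟩ := exists_stab_gens (m := m) (by omega)
  obtain ⟨rels, hc, h⟩ := exists_pres_high (F := F) (by omega) relsA e S hSm hS
  refine ⟨rels, ?_, h⟩
  rw [if_neg (show ¬ m = 3 by omega)] at hc
  rw [if_neg (show ¬ m ≤ 3 by omega)] at hlen
  split_ifs at hlen ⊢ <;> omega

end Cfsg.Agent.SLPresent
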