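import Cfsg.Agent.Lib.PSL2.PresentationCore

/-!
Short presentations of `SL_n`, part 1: permutations, one torus element and one root element.

* `Dat`: images `P` of permutations, the root element `a` (for `(o0, o1)`) and the torus element `b`.
* `Dat.hh i j`, `Dat.XX i j k`: torus elements and root elements (exponent `k`) for every ordered pair.
* `Base.hh_comm`, `Base.hh_conj_XX`: the torus is abelian and shifts exponents by the weights.
-/

set_option autoImplicit false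
set_option linter.unusedSimpArgs false

namespace Cfsg.Agent.SLPresent

open Equiv Equiv.Perm
open Cfsg.Agent.PSL2.Pres (cj cj_zero cj_add)

variable {ι : Type*} [Fintype ι] [DecidableEq ι]

/-- A permutation taking an injective tuple to another. -/
theorem exists_perm_map {k : ℕ} (f g : Fin k → ι) (hf : Function.Injective f) (hg : Function.Injective g) :
    ∃ π : Perm ι, ∀ i, π (f i) = g i := by
  classical
  refine ⟨((Equiv.ofInjective f hf).symm.trans (Equiv.ofInjective g hg)).extendSubtype, fun i => ?_⟩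
  rw [Equiv.extendSubtype_apply_of_mem _ _ ⟨i, rfl⟩, Equiv.trans_apply, Equiv.ofInjective_symm_apply]
  rfl

/-- Three distinguished points and the permutations in use. -/
structure Frame (ι : Type*) [Fintype ι] [DecidableEq ι] where
  H : Subgroup (Perm ι)
  hH : alternatingGroup ι ≤ H
  o0 : ι
  o1 : ι
  o2 : ι
  ne01 : o0 ≠ o1
  ne02 : o0 ≠ o2
  ne12 : o1 ≠ o2
  trans2 : ∀ i j : ι, i ≠ j → ∃ π ∈ H, π o0 = i ∧ π o1 = j

/-- Images of the permutations and of two further elements. -/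
structure Dat (ι : Type*) (G : Type*) where
  P : Perm ι → G
  a : G
  b : G

/-- The weight of `e_k - e_l` on the root `(i, j)`. -/
def wt (i j k l : ι) : ℤ :=
  (if i = k then 1 else 0) - (if i = l then 1 else 0) - (if j = k then 1 else 0) + (if j = l then 1 else 0)

omit [Fintype ι] in
theorem wt_map (π : Perm ι) (i j k l : ι) : wt (π i) (π j) (π k) (π l) = wt i j k l := by
  simp only [wt, π.injective.eq_iff]

omit [Fintype ι] in
theorem wt_swap (i j k l : ι) : wt i j l k = -wt i j k l := by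
  simp only [wt]; split_ifs <;> rfl

variable (Fr : Frame ι)

theorem Frame.mem_or (π s : Perm ι) (hs : sign s = -1) : π ∈ Fr.H ∨ π * s ∈ Fr.H := by
  rcases Int.units_eq_one_or (sign π) with h | h
  · exact Or.inl (Fr.hH (mem_alternatingGroup.mpr h))
  · exact Or.inr (Fr.hH (mem_alternatingGroup.mpr (by rw [Perm.sign_mul, h, hs]; decide)))

/-- A chosen permutation taking `(o0, o1)` to `(i, j)`. -/
noncomputable def Frame.pick (i j : ι) : Perm ι :=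
  if h : i ≠ j then (Fr.trans2 i j h).choose else 1

theorem Frame.pick_spec {i j : ι} (h : i ≠ j) :
    Fr.pick i j ∈ Fr.H ∧ Fr.pick i j Fr.o0 = i ∧ Fr.pick i j Fr.o1 = j := by
  rw [Frame.pick, dif_pos h]
  exact (Fr.trans2 i j h).choose_spec

theorem Frame.pick_mem (i j : ι) : Fr.pick i j ∈ Fr.H := by
  by_cases h : i ≠ j
  · exact (Fr.pick_spec h).1
  · rw [Frame.pick, dif_neg h]; exact one_mem _

variable {G : Type*} [Group G] (D : Dat ι G)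

/-- Conjugation by a permutation. -/
def Dat.mv (π : Perm ι) (g : G) : G := D.P π * g * (D.P π)⁻¹

/-- The torus elements. -/
noncomputable def Dat.hh (i j : ι) : G := D.mv (Fr.pick i j) D.b

/-- The translates of `a`. -/
noncomputable def Dat.eta (k : ℤ) : G := cj D.a (D.hh Fr Fr.o1 Fr.o2)⁻¹ k

/-- The root elements with exponent. -/
noncomputable def Dat.XX (i j : ι) (k : ℤ) : G := D.mv (Fr.pick i j) (D.eta Fr k)

/-- Transport along a homomorphism. -/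
def Dat.map {G' : Type*} [Group G'] (φ : G →* G') : Dat ι G' := ⟨fun π => φ (D.P π), φ D.a, φ D.b⟩

section map

variable {G' : Type*} [Group G'] (φ : G →* G')

omit [Fintype ι] [DecidableEq ι] in
theorem Dat.map_mv (π : Perm ι) (g : G) : φ (D.mv π g) = (D.map φ).mv π (φ g) := by
  simp [Dat.mv, Dat.map]

theorem Dat.map_hh (i j : ι) : φ (D.hh Fr i j) = (D.map φ).hh Fr i j := D.map_mv φ _ _

theorem Dat.map_eta (k : ℤ) : φ (D.eta Fr k) = (D.map φ).eta Fr k := by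
  simp only [Dat.eta, cj, map_mul, map_inv, map_zpow, D.map_hh Fr φ]
  rfl

theorem Dat.map_XX (i j : ι) (k : ℤ) : φ (D.XX Fr i j k) = (D.map φ).XX Fr i j k := by
  rw [Dat.XX, D.map_mv φ, D.map_eta Fr φ]; rfl

end map

/-- Permutations form a homomorphic image, fix `a`, `b` when they fix `o0, o1`, and invert `b` when
they interchange them. -/
structure Core : Prop where
  P_mul : ∀ x ∈ Fr.H, ∀ y ∈ Fr.H, D.P (x * y) = D.P x * D.P y
  stab : ∀ π ∈ Fr.H, π Fr.o0 = Fr.o0 → π Fr.o1 = Fr.o1 → Commute (D.P π) D.a ∧ Commute (D.P π) D.b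
  flip : ∃ σ ∈ Fr.H, σ Fr.o0 = Fr.o1 ∧ σ Fr.o1 = Fr.o0 ∧ D.mv σ D.b = D.b⁻¹

/-- The torus relations. -/
structure Base : Prop extends Core Fr D where
  share : Commute D.b (D.hh Fr Fr.o1 Fr.o2)
  tri : D.b * D.hh Fr Fr.o1 Fr.o2 * D.hh Fr Fr.o2 Fr.o0 = 1
  bab : D.b * D.a * D.b⁻¹ = D.eta Fr 2
  disj : ∀ k l : ι, k ≠ l → k ≠ Fr.o0 → k ≠ Fr.o1 → l ≠ Fr.o0 → l ≠ Fr.o1 → Commute (D.hh Fr k l) D.a

variable {Fr} {D}

theorem Core.P_one (C : Core Fr D) : D.P 1 = 1 := by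
  have := C.P_mul 1 (one_mem _) 1 (one_mem _)
  rw [one_mul] at this
  exact left_eq_mul.mp this

theorem Core.P_inv (C : Core Fr D) {x : Perm ι} (hx : x ∈ Fr.H) : D.P x⁻¹ = (D.P x)⁻¹ :=
  eq_inv_of_mul_eq_one_left (by rw [← C.P_mul _ (inv_mem hx) _ hx, inv_mul_cancel, C.P_one])

theorem Core.mv_mv (C : Core Fr D) {x y : Perm ι} (hx : x ∈ Fr.H) (hy : y ∈ Fr.H) (g : G) :
    D.mv x (D.mv y g) = D.mv (x * y) g := by
  simp only [Dat.mv, C.P_mul x hx y hy, _root_.mul_inv_rev, mul_assoc]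

omit [Fintype ι] [DecidableEq ι] in
theorem mv_mul (π : Perm ι) (g g' : G) : D.mv π (g * g') = D.mv π g * D.mv π g' := by
  simp only [Dat.mv]; group

omit [Fintype ι] [DecidableEq ι] in
theorem mv_inv (π : Perm ι) (g : G) : D.mv π g⁻¹ = (D.mv π g)⁻¹ := by
  simp only [Dat.mv]; group

omit [Fintype ι] [DecidableEq ι] in
theorem mv_one (π : Perm ι) : D.mv π 1 = 1 := by simp [Dat.mv]

omit [Fintype ι] [DecidableEq ι] in
theorem mv_comm {π : Perm ι} {g g' : G} (h : Commute g g') : Commute (D.mv π g) (D.mv π g') := by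
  show _ * _ = _ * _
  rw [← mv_mul, ← mv_mul, h.eq]

/-- A value fixed by the stabiliser transports consistently. -/
theorem Core.mv_pick (C : Core Fr D) {g : G}
    (hg : ∀ π ∈ Fr.H, π Fr.o0 = Fr.o0 → π Fr.o1 = Fr.o1 → D.mv π g = g)
    {i j : ι} (hij : i ≠ j) {π : Perm ι} (hπ : π ∈ Fr.H) (h0 : π Fr.o0 = i) (h1 : π Fr.o1 = j) :
    D.mv (Fr.pick i j) g = D.mv π g := by
  obtain ⟨hm, e0, e1⟩ := Fr.pick_spec hij
  set ρ := Fr.pick i j
  have h := hg (π⁻¹ * ρ) (mul_mem (inv_mem hπ) hm) (by rw [Perm.mul_apply, e0, ← h0]; simp)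
    (by rw [Perm.mul_apply, e1, ← h1]; simp)
  calc D.mv ρ g = D.mv (π * (π⁻¹ * ρ)) g := by rw [mul_inv_cancel_left]
    _ = D.mv π g := by rw [← C.mv_mv hπ (mul_mem (inv_mem hπ) hm), h]

theorem Core.mv_b (C : Core Fr D) {π : Perm ι} (hπ : π ∈ Fr.H) (h0 : π Fr.o0 = Fr.o0) (h1 : π Fr.o1 = Fr.o1) :
    D.mv π D.b = D.b := by
  rw [Dat.mv, (C.stab π hπ h0 h1).2.eq, mul_inv_cancel_right]

theorem Core.mv_a (C : Core Fr D) {π : Perm ι} (hπ : π ∈ Fr.H) (h0 : π Fr.o0 = Fr.o0) (h1 : π Fr.o1 = Fr.o1) :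
    D.mv π D.a = D.a := by
  rw [Dat.mv, (C.stab π hπ h0 h1).1.eq, mul_inv_cancel_right]

theorem Core.hh_eq (C : Core Fr D) {i j : ι} (hij : i ≠ j) {π : Perm ι} (hπ : π ∈ Fr.H) (h0 : π Fr.o0 = i)
    (h1 : π Fr.o1 = j) : D.hh Fr i j = D.mv π D.b :=
  C.mv_pick (fun π hπ h0 h1 => C.mv_b hπ h0 h1) hij hπ h0 h1

theorem Core.hh_01 (C : Core Fr D) : D.hh Fr Fr.o0 Fr.o1 = D.b := by
  rw [C.hh_eq Fr.ne01 (one_mem _) rfl rfl, Dat.mv, C.P_one, inv_one, one_mul, mul_one]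

theorem Core.mv_hh (C : Core Fr D) {π : Perm ι} (hπ : π ∈ Fr.H) {i j : ι} (hij : i ≠ j) :
    D.mv π (D.hh Fr i j) = D.hh Fr (π i) (π j) := by
  obtain ⟨hm, e0, e1⟩ := Fr.pick_spec hij
  rw [C.hh_eq (π.injective.ne hij) (mul_mem hπ hm) (by rw [Perm.mul_apply, e0]) (by rw [Perm.mul_apply, e1]),
    ← C.mv_mv hπ hm]
  rfl

theorem Core.hh_swap (C : Core Fr D) {i j : ι} (hij : i ≠ j) : D.hh Fr j i = (D.hh Fr i j)⁻¹ := by
  obtain ⟨σ, hσ, h0, h1, hb⟩ := C.flip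
  obtain ⟨hm, e0, e1⟩ := Fr.pick_spec hij
  rw [C.hh_eq hij.symm (mul_mem hm hσ) (by rw [Perm.mul_apply, h0, e1]) (by rw [Perm.mul_apply, h1, e0]),
    ← C.mv_mv hm hσ, hb, mv_inv]
  rfl

variable (B : Base Fr D)
include B

theorem Base.hh_share {i j k : ι} (hij : i ≠ j) (hjk : j ≠ k) (hik : i ≠ k) :
    Commute (D.hh Fr i j) (D.hh Fr j k) := by
  obtain ⟨π, hπ⟩ := exists_perm_map ![Fr.o0, Fr.o1, Fr.o2] ![i, j, k]
    (by simp [Function.Injective, Fin.forall_fin_succ, Fr.ne01, Fr.ne02, Fr.ne12, Fr.ne01.symm, Fr.ne02.symm,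
      Fr.ne12.symm])
    (by simp [Function.Injective, Fin.forall_fin_succ, hij, hjk, hik, hij.symm, hjk.symm, hik.symm])
  have p0 : π Fr.o0 = i := hπ 0
  have p1 : π Fr.o1 = j := hπ 1
  have p2 : π Fr.o2 = k := hπ 2
  have key : ∀ ρ ∈ Fr.H, Commute (D.hh Fr (ρ Fr.o0) (ρ Fr.o1)) (D.hh Fr (ρ Fr.o1) (ρ Fr.o2)) := fun ρ hρ => by
    have h := mv_comm (D := D) (π := ρ) B.share
    rwa [← B.toCore.hh_01, B.toCore.mv_hh hρ Fr.ne01, B.toCore.mv_hh hρ Fr.ne12] at h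
  rcases Fr.mem_or π (swap Fr.o0 Fr.o2) (sign_swap Fr.ne02) with h | h
  · simpa only [p0, p1, p2] using key π h
  · have := key _ h
    simp only [Perm.mul_apply, swap_apply_left, swap_apply_right, swap_apply_of_ne_of_ne Fr.ne01.symm Fr.ne12, p0,
      p1, p2] at this
    rw [B.toCore.hh_swap hjk, B.toCore.hh_swap hij] at this
    simpa using (this.inv_inv).symm

theorem Base.hh_trans {i j k : ι} (hij : i ≠ j) (hjk : j ≠ k) (hik : i ≠ k) :
    D.hh Fr i k = D.hh Fr i j * D.hh Fr j k := by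
  obtain ⟨π, hπ⟩ := exists_perm_map ![Fr.o0, Fr.o1, Fr.o2] ![i, j, k]
    (by simp [Function.Injective, Fin.forall_fin_succ, Fr.ne01, Fr.ne02, Fr.ne12, Fr.ne01.symm, Fr.ne02.symm,
      Fr.ne12.symm])
    (by simp [Function.Injective, Fin.forall_fin_succ, hij, hjk, hik, hij.symm, hjk.symm, hik.symm])
  have p0 : π Fr.o0 = i := hπ 0
  have p1 : π Fr.o1 = j := hπ 1
  have p2 : π Fr.o2 = k := hπ 2
  have key : ∀ ρ ∈ Fr.H, D.hh Fr (ρ Fr.o0) (ρ Fr.o1) * D.hh Fr (ρ Fr.o1) (ρ Fr.o2) *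
      D.hh Fr (ρ Fr.o2) (ρ Fr.o0) = 1 := fun ρ hρ => by
    have h := congrArg (D.mv ρ) B.tri
    rwa [mv_mul, mv_mul, mv_one, ← B.toCore.hh_01, B.toCore.mv_hh hρ Fr.ne01, B.toCore.mv_hh hρ Fr.ne12,
      B.toCore.mv_hh hρ Fr.ne02.symm] at h
  rcases Fr.mem_or π (swap Fr.o0 Fr.o2) (sign_swap Fr.ne02) with h | h
  · have := key π h
    rw [p0, p1, p2, B.toCore.hh_swap hik, mul_inv_eq_one] at this
    exact this.symm
  · have := key _ h
    simp only [Perm.mul_apply, swap_apply_left, swap_apply_right, swap_apply_of_ne_of_ne Fr.ne01.symm Fr.ne12, p0,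
      p1, p2] at this
    rw [B.toCore.hh_swap hjk, B.toCore.hh_swap hij, ← _root_.mul_inv_rev, inv_mul_eq_one] at this
    exact this.symm

theorem Base.hh_comm {i j k l : ι} (hij : i ≠ j) (hkl : k ≠ l) : Commute (D.hh Fr i j) (D.hh Fr k l) := by
  have left : ∀ {m}, i ≠ m → Commute (D.hh Fr i j) (D.hh Fr i m) := by
    intro m him
    by_cases hjm : j = m
    · subst hjm; exact Commute.refl _
    · have := (B.hh_share hij.symm him hjm).inv_left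
      rwa [← B.toCore.hh_swap hij.symm] at this
  have right : ∀ {m}, j ≠ m → Commute (D.hh Fr i j) (D.hh Fr j m) := by
    intro m hjm
    by_cases him : i = m
    · subst him; rw [B.toCore.hh_swap hij]; exact (Commute.refl _).inv_right
    · exact B.hh_share hij hjm him
  by_cases h1 : k = i
  · subst h1; exact left hkl
  by_cases h2 : l = i
  · subst h2; rw [B.toCore.hh_swap hkl.symm]; exact (left hkl.symm).inv_right
  by_cases h3 : k = j
  · subst h3; exact right hkl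
  by_cases h4 : l = j
  · subst h4; rw [B.toCore.hh_swap hkl.symm]; exact (right hkl.symm).inv_right
  rw [B.hh_trans h1 (Ne.symm h2) hkl, B.toCore.hh_swap (Ne.symm h1)]
  exact (left (Ne.symm h1)).inv_right.mul_right (left (Ne.symm h2))

omit B in
theorem eta_zero : D.eta Fr 0 = D.a := cj_zero _ _

omit B in
/-- An element commuting with the shift and moving `a` by `w` moves every translate by `w`. -/
theorem shift_of {g : G} {w : ℤ} (hg : Commute g (D.hh Fr Fr.o1 Fr.o2)) (ha : g * D.a * g⁻¹ = D.eta Fr w)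
    (t : ℤ) : g * D.eta Fr t * g⁻¹ = D.eta Fr (t + w) := by
  unfold Dat.eta at ha ⊢
  rw [cj_add, ← ha, MulAut.conj_apply, cj]
  generalize hX : ((D.hh Fr Fr.o1 Fr.o2)⁻¹) ^ t = X
  have hc : g * X = X * g := hX ▸ (hg.inv_right.zpow_right t).eq
  calc g * (X * D.a * X⁻¹) * g⁻¹ = g * X * D.a * (g * X)⁻¹ := by group
    _ = X * (g * D.a * g⁻¹) * X⁻¹ := by rw [hc]; group

omit B in
theorem shift_zpow {g : G} {w : ℤ} (h : ∀ t, g * D.eta Fr t * g⁻¹ = D.eta Fr (t + w)) (m t : ℤ) :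
    g ^ m * D.eta Fr t * (g ^ m)⁻¹ = D.eta Fr (t + m * w) := by
  induction m generalizing t with
  | zero => simp
  | succ m ih =>
    rw [zpow_add_one, show g ^ (m : ℤ) * g * D.eta Fr t * (g ^ (m : ℤ) * g)⁻¹ =
      g ^ (m : ℤ) * (g * D.eta Fr t * g⁻¹) * (g ^ (m : ℤ))⁻¹ by group, h, ih]
    congr 1; ring
  | pred m ih =>
    have h' := h (t - w)
    rw [sub_add_cancel] at h'
    rw [zpow_sub_one, show g ^ (-(m : ℤ)) * g⁻¹ * D.eta Fr t * (g ^ (-(m : ℤ)) * g⁻¹)⁻¹ =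
      g ^ (-(m : ℤ)) * (g⁻¹ * D.eta Fr t * g) * (g ^ (-(m : ℤ)))⁻¹ by group,
      show g⁻¹ * D.eta Fr t * g = D.eta Fr (t - w) by rw [← h']; group, ih]
    congr 1; ring

/-- The torus moves `a` by the weight. -/
theorem Base.hh_conj_a {k l : ι} (hkl : k ≠ l) :
    D.hh Fr k l * D.a * (D.hh Fr k l)⁻¹ = D.eta Fr (wt Fr.o0 Fr.o1 k l) := by
  have h01 := Fr.ne01
  have hsh : ∀ {k l}, k ≠ l → Commute (D.hh Fr k l) (D.hh Fr Fr.o1 Fr.o2) := fun h => B.hh_comm h Fr.ne12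
  have hτ : D.hh Fr Fr.o1 Fr.o2 * D.a * (D.hh Fr Fr.o1 Fr.o2)⁻¹ = D.eta Fr (-1) := by
    simp [Dat.eta, cj, zpow_neg_one]
  have hb : D.hh Fr Fr.o0 Fr.o1 * D.a * (D.hh Fr Fr.o0 Fr.o1)⁻¹ = D.eta Fr 2 := by
    rw [B.toCore.hh_01]; exact B.bab
  have c1 : ∀ m, m ≠ Fr.o0 → m ≠ Fr.o1 → D.hh Fr Fr.o1 m * D.a * (D.hh Fr Fr.o1 m)⁻¹ = D.eta Fr (-1) := by
    intro m hm0 hm1
    by_cases hm : m = Fr.o2
    · subst hm; exact hτ
    · have hd := B.disj Fr.o2 m (Ne.symm hm) Fr.ne02.symm Fr.ne12.symm hm0 hm1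
      rw [B.hh_trans Fr.ne12 (Ne.symm hm) (Ne.symm hm1)]
      set u := D.hh Fr Fr.o2 m
      set v := D.hh Fr Fr.o1 Fr.o2
      calc v * u * D.a * (v * u)⁻¹ = v * (u * D.a * u⁻¹) * v⁻¹ := by group
        _ = v * D.a * v⁻¹ := by rw [hd.eq, mul_inv_cancel_right]
        _ = _ := hτ
  have c0 : ∀ m, m ≠ Fr.o0 → m ≠ Fr.o1 → D.hh Fr Fr.o0 m * D.a * (D.hh Fr Fr.o0 m)⁻¹ = D.eta Fr 1 := by
    intro m hm0 hm1
    rw [B.hh_trans h01 (Ne.symm hm1) (Ne.symm hm0),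
      show D.hh Fr Fr.o0 Fr.o1 * D.hh Fr Fr.o1 m * D.a * (D.hh Fr Fr.o0 Fr.o1 * D.hh Fr Fr.o1 m)⁻¹ =
        D.hh Fr Fr.o0 Fr.o1 * (D.hh Fr Fr.o1 m * D.a * (D.hh Fr Fr.o1 m)⁻¹) * (D.hh Fr Fr.o0 Fr.o1)⁻¹ by group,
      c1 m hm0 hm1, shift_of (hsh h01) hb]
    norm_num
  have cinv : ∀ {k l}, k ≠ l → ∀ w, D.hh Fr k l * D.a * (D.hh Fr k l)⁻¹ = D.eta Fr w →
      D.hh Fr l k * D.a * (D.hh Fr l k)⁻¹ = D.eta Fr (-w) := by
    intro k l hkl w h
    have := shift_zpow (shift_of (hsh hkl) h) (-1) 0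
    rw [zpow_neg_one, eta_zero, zero_add, neg_one_mul] at this
    rw [B.toCore.hh_swap hkl]
    exact this
  by_cases k0 : k = Fr.o0
  · subst k0
    by_cases l1 : l = Fr.o1
    · subst l1; rw [hb]; congr 1; simp [wt, h01, h01.symm]
    · rw [c0 l (Ne.symm hkl) l1]; congr 1; simp [wt, h01, h01.symm, Ne.symm l1, hkl]
  by_cases k1 : k = Fr.o1
  · subst k1
    by_cases l0 : l = Fr.o0
    · subst l0; rw [cinv h01 2 hb]; congr 1; simp [wt, h01, h01.symm]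
    · rw [c1 l l0 (Ne.symm hkl)]; congr 1; simp [wt, h01, h01.symm, Ne.symm l0, hkl]
  by_cases l0 : l = Fr.o0
  · subst l0; rw [cinv (Ne.symm k0) 1 (c0 k k0 k1)]; congr 1; simp [wt, h01, h01.symm, Ne.symm k0, Ne.symm k1]
  by_cases l1 : l = Fr.o1
  · subst l1; rw [cinv (Ne.symm k1) (-1) (c1 k k0 k1)]; congr 1; simp [wt, h01, h01.symm, Ne.symm k0, Ne.symm k1]
  rw [(B.disj k l hkl k0 k1 l0 l1).eq, mul_inv_cancel_right, ← eta_zero (D := D) (Fr := Fr)]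
  congr 1; simp [wt, Ne.symm k0, Ne.symm k1, Ne.symm l0, Ne.symm l1]

theorem Base.hh_conj_eta {k l : ι} (hkl : k ≠ l) (m t : ℤ) :
    D.hh Fr k l ^ m * D.eta Fr t * (D.hh Fr k l ^ m)⁻¹ = D.eta Fr (t + m * wt Fr.o0 Fr.o1 k l) :=
  shift_zpow (shift_of (B.hh_comm hkl Fr.ne12) (B.hh_conj_a hkl)) m t

theorem Base.mv_eta {π : Perm ι} (hπ : π ∈ Fr.H) (h0 : π Fr.o0 = Fr.o0) (h1 : π Fr.o1 = Fr.o1) (t : ℤ) :
    D.mv π (D.eta Fr t) = D.eta Fr t := by
  have hm0 : π Fr.o2 ≠ Fr.o0 := fun e => Fr.ne02 (π.injective (h0.trans e.symm))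
  have hm1 : π Fr.o2 ≠ Fr.o1 := fun e => Fr.ne12 (π.injective (h1.trans e.symm))
  have e1 : D.mv π (D.hh Fr Fr.o1 Fr.o2) = D.hh Fr Fr.o1 (π Fr.o2) := by
    rw [B.toCore.mv_hh hπ Fr.ne12, h1]
  have e2 : D.mv π ((D.hh Fr Fr.o1 Fr.o2)⁻¹ ^ t) = D.hh Fr Fr.o1 (π Fr.o2) ^ (-t) := by
    rw [← e1, inv_zpow', Dat.mv, Dat.mv, conj_zpow]
  conv_lhs => rw [Dat.eta, cj, mv_mul, mv_mul, mv_inv, e2, B.toCore.mv_a hπ h0 h1,
    ← eta_zero (D := D) (Fr := Fr), B.hh_conj_eta (Ne.symm hm1)]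
  congr 1
  simp [wt, Fr.ne01, Ne.symm hm0, Ne.symm hm1]

theorem Base.XX_eq {i j : ι} (hij : i ≠ j) {π : Perm ι} (hπ : π ∈ Fr.H) (h0 : π Fr.o0 = i)
    (h1 : π Fr.o1 = j) (t : ℤ) : D.XX Fr i j t = D.mv π (D.eta Fr t) :=
  B.toCore.mv_pick (fun _ hπ h0 h1 => B.mv_eta hπ h0 h1 t) hij hπ h0 h1

theorem Base.XX_01 (t : ℤ) : D.XX Fr Fr.o0 Fr.o1 t = D.eta Fr t := by
  rw [B.XX_eq Fr.ne01 (one_mem _) rfl rfl, Dat.mv, B.toCore.P_one, inv_one, one_mul, mul_one]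

theorem Base.mv_XX {π : Perm ι} (hπ : π ∈ Fr.H) {i j : ι} (hij : i ≠ j) (t : ℤ) :
    D.mv π (D.XX Fr i j t) = D.XX Fr (π i) (π j) t := by
  obtain ⟨hm, e0, e1⟩ := Fr.pick_spec hij
  rw [B.XX_eq (π.injective.ne hij) (mul_mem hπ hm) (by rw [Perm.mul_apply, e0]) (by rw [Perm.mul_apply, e1]),
    ← B.toCore.mv_mv hπ hm]
  rfl

theorem Base.hh_conj_XX {i j k l : ι} (hij : i ≠ j) (hkl : k ≠ l) (m t : ℤ) :
    D.hh Fr k l ^ m * D.XX Fr i j t * (D.hh Fr k l ^ m)⁻¹ = D.XX Fr i j (t + m * wt i j k l) := by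
  obtain ⟨hπ, e0, e1⟩ := Fr.pick_spec hij
  set π := Fr.pick i j with hπd
  have hk : D.hh Fr k l = D.mv π (D.hh Fr (π⁻¹ k) (π⁻¹ l)) := by
    rw [B.toCore.mv_hh hπ ((π⁻¹).injective.ne hkl)]; simp
  have hw : wt i j k l = wt Fr.o0 Fr.o1 (π⁻¹ k) (π⁻¹ l) := by
    rw [← wt_map π⁻¹ i j k l, show π⁻¹ i = Fr.o0 by rw [← e0]; simp, show π⁻¹ j = Fr.o1 by rw [← e1]; simp]
  have hz : D.hh Fr k l ^ m = D.mv π (D.hh Fr (π⁻¹ k) (π⁻¹ l) ^ m) := by
    rw [hk]; simp only [Dat.mv, conj_zpow]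
  rw [hz, hw, Dat.XX, Dat.XX, ← hπd, ← mv_inv, ← mv_mul, ← mv_mul,
    B.hh_conj_eta ((π⁻¹).injective.ne hkl)]

/-- A commutation moves along the torus. -/
theorem Base.comm_shift {i j k l c d : ι} (hij : i ≠ j) (hkl : k ≠ l) (hcd : c ≠ d) (m : ℤ) {s t : ℤ}
    (h : Commute (D.XX Fr i j s) (D.XX Fr k l t)) :
    Commute (D.XX Fr i j (s + m * wt i j c d)) (D.XX Fr k l (t + m * wt k l c d)) := by
  have := h.map (MulAut.conj (D.hh Fr c d ^ m))
  rwa [MulAut.conj_apply, MulAut.conj_apply, B.hh_conj_XX hij hcd, B.hh_conj_XX hkl hcd] at this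

/-- A chain relation moves along the torus. -/
theorem Base.chain_shift {i j k c d : ι} (hij : i ≠ j) (hjk : j ≠ k) (hik : i ≠ k) (hcd : c ≠ d) (m : ℤ)
    {s t : ℤ}
    (h : D.XX Fr i j s * D.XX Fr j k t = D.XX Fr i k (s + t) * D.XX Fr j k t * D.XX Fr i j s) :
    D.XX Fr i j (s + m * wt i j c d) * D.XX Fr j k (t + m * wt j k c d) =
      D.XX Fr i k ((s + m * wt i j c d) + (t + m * wt j k c d)) * D.XX Fr j k (t + m * wt j k c d) *
        D.XX Fr i j (s + m * wt i j c d) := by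
  have := congrArg (MulAut.conj (D.hh Fr c d ^ m)) h
  simp only [map_mul, MulAut.conj_apply, B.hh_conj_XX hij hcd, B.hh_conj_XX hjk hcd, B.hh_conj_XX hik hcd] at this
  rwa [show s + m * wt i j c d + (t + m * wt j k c d) = s + t + m * wt i k c d by simp only [wt]; ring]

/-- A commutation moves along the permutations. -/
theorem Base.comm_mv {π : Perm ι} (hπ : π ∈ Fr.H) {i j k l : ι} (hij : i ≠ j) (hkl : k ≠ l) {s t : ℤ}
    (h : Commute (D.XX Fr i j s) (D.XX Fr k l t)) :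
    Commute (D.XX Fr (π i) (π j) s) (D.XX Fr (π k) (π l) t) := by
  rw [← B.mv_XX hπ hij, ← B.mv_XX hπ hkl]
  exact mv_comm h

/-- A chain relation moves along the permutations. -/
theorem Base.chain_mv {π : Perm ι} (hπ : π ∈ Fr.H) {i j k : ι} (hij : i ≠ j) (hjk : j ≠ k) (hik : i ≠ k)
    {s t u : ℤ} (h : D.XX Fr i j s * D.XX Fr j k t = D.XX Fr i k u * D.XX Fr j k t * D.XX Fr i j s) :
    D.XX Fr (π i) (π j) s * D.XX Fr (π j) (π k) t =
      D.XX Fr (π i) (π k) u * D.XX Fr (π j) (π k) t * D.XX Fr (π i) (π j) s := by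
  rw [← B.mv_XX hπ hij, ← B.mv_XX hπ hjk, ← B.mv_XX hπ hik, ← mv_mul, ← mv_mul, ← mv_mul, h]

end Cfsg.Agent.SLPresent
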