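import Cfsg.Agent.Lib.SLPresent.Steinberg

/-!
Short presentations of `SL_n`, part 5: at least four points, even permutations.

* `High`: the relations at representatives, with exponent `0`.
* `High.bijective`: they force SL.
-/

set_option autoImplicit false
set_option linter.unusedSimpArgs false

namespace Cfsg.Agent.SLPresent

open Equiv Equiv.Perm

variable {ι : Type*} [Fintype ι] [DecidableEq ι] {G : Type*} [Group G] {Fr : Frame ι} {D : Dat ι G}

/-- Relations at representatives. -/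
structure High (Fr : Frame ι) (D : Dat ι G) (o3 : ι) : Prop extends Core Fr D where
  ne03 : Fr.o0 ≠ o3
  ne13 : Fr.o1 ≠ o3
  ne23 : Fr.o2 ≠ o3
  share : Commute D.b (D.hh Fr Fr.o1 Fr.o2)
  tri : D.b * D.hh Fr Fr.o1 Fr.o2 * D.hh Fr Fr.o2 Fr.o0 = 1
  bab : D.b * D.a * D.b⁻¹ = D.eta Fr 2
  disj0 : Commute (D.hh Fr Fr.o2 o3) D.a
  row0 : Commute (D.XX Fr Fr.o0 Fr.o1 0) (D.XX Fr Fr.o0 Fr.o2 0)
  col0 : Commute (D.XX Fr Fr.o0 Fr.o2 0) (D.XX Fr Fr.o1 Fr.o2 0)
  chainA : D.XX Fr Fr.o0 Fr.o1 0 * D.XX Fr Fr.o1 Fr.o2 0 =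
    D.XX Fr Fr.o0 Fr.o2 0 * D.XX Fr Fr.o1 Fr.o2 0 * D.XX Fr Fr.o0 Fr.o1 0
  chainB : D.XX Fr Fr.o0 Fr.o1 0 * D.XX Fr Fr.o1 o3 0 =
    D.XX Fr Fr.o0 o3 0 * D.XX Fr Fr.o1 o3 0 * D.XX Fr Fr.o0 Fr.o1 0
  far : Commute (D.XX Fr Fr.o0 Fr.o1 0) (D.XX Fr Fr.o2 o3 0)

variable {o3 : ι}

theorem exists_perm4 {i j k l a b c d : ι} (hab : a ≠ b) (hac : a ≠ c) (had : a ≠ d) (hbc : b ≠ c) (hbd : b ≠ d)
    (hcd : c ≠ d) (hij : i ≠ j) (hik : i ≠ k) (hil : i ≠ l) (hjk : j ≠ k) (hjl : j ≠ l) (hkl : k ≠ l) :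
    ∃ π : Perm ι, π a = i ∧ π b = j ∧ π c = k ∧ π d = l := by
  obtain ⟨π, hπ⟩ := exists_perm_map ![a, b, c, d] ![i, j, k, l]
    (by simp [Function.Injective, Fin.forall_fin_succ, hab, hac, had, hbc, hbd, hcd, hab.symm, hac.symm,
      had.symm, hbc.symm, hbd.symm, hcd.symm])
    (by simp [Function.Injective, Fin.forall_fin_succ, hij, hik, hil, hjk, hjl, hkl, hij.symm, hik.symm,
      hil.symm, hjk.symm, hjl.symm, hkl.symm])
  exact ⟨π, hπ 0, hπ 1, hπ 2, hπ 3⟩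

theorem exists_perm3 {i j k a b c : ι} (hab : a ≠ b) (hac : a ≠ c) (hbc : b ≠ c) (hij : i ≠ j) (hik : i ≠ k)
    (hjk : j ≠ k) : ∃ π : Perm ι, π a = i ∧ π b = j ∧ π c = k := by
  obtain ⟨π, hπ⟩ := exists_perm_map ![a, b, c] ![i, j, k]
    (by simp [Function.Injective, Fin.forall_fin_succ, hab, hac, hbc, hab.symm, hac.symm, hbc.symm])
    (by simp [Function.Injective, Fin.forall_fin_succ, hij, hik, hjk, hij.symm, hik.symm, hjk.symm])
  exact ⟨π, hπ 0, hπ 1, hπ 2⟩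

theorem High.base (h : High Fr D o3) : Base Fr D := by
  refine ⟨h.toCore, h.share, h.tri, h.bab, fun k l hkl k0 k1 l0 l1 => ?_⟩
  obtain ⟨π, p0, p1, p2, p3⟩ := exists_perm4 Fr.ne01 Fr.ne02 h.ne03 Fr.ne12 h.ne13 h.ne23 Fr.ne01
    (Ne.symm k0) (Ne.symm l0) (Ne.symm k1) (Ne.symm l1) hkl
  rcases Fr.mem_or π (swap Fr.o2 o3) (sign_swap h.ne23) with hπ | hπ
  · have := mv_comm (D := D) (π := π) h.disj0
    rwa [h.toCore.mv_hh hπ h.ne23, h.toCore.mv_a hπ p0 p1, p2, p3] at this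
  · have := mv_comm (D := D) (π := π * swap Fr.o2 o3) h.disj0
    rw [h.toCore.mv_hh hπ h.ne23, h.toCore.mv_a hπ
        (by rw [Perm.mul_apply, swap_apply_of_ne_of_ne Fr.ne02 h.ne03, p0])
        (by rw [Perm.mul_apply, swap_apply_of_ne_of_ne Fr.ne12 h.ne13, p1]),
      Perm.mul_apply, Perm.mul_apply, swap_apply_left, swap_apply_right, p2, p3, h.toCore.hh_swap hkl] at this
    simpa using this.inv_left

theorem High.three (h : High Fr D o3) : Three Fr D := by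
  have B := h.base
  obtain ⟨n01, n02, n12, n03, n13, n23⟩ := And.intro Fr.ne01 (And.intro Fr.ne02 (And.intro Fr.ne12
    (And.intro h.ne03 (And.intro h.ne13 h.ne23))))
  have row : ∀ s t, Commute (D.XX Fr Fr.o0 Fr.o1 s) (D.XX Fr Fr.o0 Fr.o2 t) := fun s t => by
    have := B.comm_shift n01 n02 n23 (s - t) (B.comm_shift n01 n02 n03 s h.row0)
    simp [wt, n01, n02, n12, n03, n13, n23, n01.symm, n02.symm, n12.symm, n03.symm, n13.symm, n23.symm] at this
    exact this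
  have col : ∀ s t, Commute (D.XX Fr Fr.o0 Fr.o2 s) (D.XX Fr Fr.o1 Fr.o2 t) := fun s t => by
    have := B.comm_shift n02 n12 n13 t (B.comm_shift n02 n12 n03 s h.col0)
    simp [wt, n01, n02, n12, n03, n13, n23, n01.symm, n02.symm, n12.symm, n03.symm, n13.symm, n23.symm] at this
    exact this
  have chA : ∀ s t, D.XX Fr Fr.o0 Fr.o1 s * D.XX Fr Fr.o1 Fr.o2 t =
      D.XX Fr Fr.o0 Fr.o2 (s + t) * D.XX Fr Fr.o1 Fr.o2 t * D.XX Fr Fr.o0 Fr.o1 s := fun s t => by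
    have := B.chain_shift n01 n12 n02 n23 (-t) (B.chain_shift n01 n12 n02 n03 s (s := 0) (t := 0)
      (by rw [add_zero]; exact h.chainA))
    simp [wt, n01, n02, n12, n03, n13, n23, n01.symm, n02.symm, n12.symm, n03.symm, n13.symm, n23.symm] at this
    exact this
  have chB : ∀ s t, D.XX Fr Fr.o0 Fr.o1 s * D.XX Fr Fr.o1 o3 t =
      D.XX Fr Fr.o0 o3 (s + t) * D.XX Fr Fr.o1 o3 t * D.XX Fr Fr.o0 Fr.o1 s := fun s t => by
    have := B.chain_shift n01 n13 n03 n23.symm (-t) (B.chain_shift n01 n13 n03 n02 s (s := 0) (t := 0)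
      (by rw [add_zero]; exact h.chainB))
    simp [wt, n01, n02, n12, n03, n13, n23, n01.symm, n02.symm, n12.symm, n03.symm, n13.symm, n23.symm] at this
    exact this
  refine ⟨fun {i j k} hij hik hjk s t => ?_, fun {i j k} hij hik hjk s t => ?_,
    fun {i j k} hij hjk hik s t => ?_⟩
  · obtain ⟨π, p0, p1, p2⟩ := exists_perm3 n01 n02 n12 hij hik hjk
    rcases Fr.mem_or π (swap Fr.o1 Fr.o2) (sign_swap n12) with hπ | hπ
    · simpa only [p0, p1, p2] using B.comm_mv hπ n01 n02 (row s t)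
    · have := (B.comm_mv hπ n01 n02 (row t s)).symm
      simpa only [Perm.mul_apply, swap_apply_left, swap_apply_right, swap_apply_of_ne_of_ne n01 n02, p0, p1, p2]
        using this
  · obtain ⟨π, p0, p1, p2⟩ := exists_perm3 n01 n02 n12 hij hik hjk
    rcases Fr.mem_or π (swap Fr.o0 Fr.o1) (sign_swap n01) with hπ | hπ
    · simpa only [p0, p1, p2] using B.comm_mv hπ n02 n12 (col s t)
    · have := (B.comm_mv hπ n02 n12 (col t s)).symm
      simpa only [Perm.mul_apply, swap_apply_left, swap_apply_right, swap_apply_of_ne_of_ne n02.symm n12.symm, p0,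
        p1, p2] using this
  · obtain ⟨π, p0, p1, p2⟩ := exists_perm3 n01 n02 n12 hij hik hjk
    rcases Fr.mem_or π (swap Fr.o2 o3) (sign_swap n23) with hπ | hπ
    · simpa only [p0, p1, p2] using B.chain_mv hπ n01 n12 n02 (chA s t)
    · have := B.chain_mv hπ n01 n13 n03 (chB s t)
      simpa only [Perm.mul_apply, swap_apply_right, swap_apply_of_ne_of_ne n02 n03,
        swap_apply_of_ne_of_ne n12 n13, p0, p1, p2] using this

variable {F : Type*} [Field F] [Finite F]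

theorem High.disjoint4 (h : High Fr D o3) {ω : Fˣ} (hω : ∀ x : Fˣ, x ∈ Subgroup.zpowers ω)
    {x : ι → ι → F → G} (hx : RootMap ω x D Fr) : Disjoint4 Fr D := by
  have B := h.base
  have S := h.three
  obtain ⟨n01, n02, n12, n03, n13, n23⟩ := And.intro Fr.ne01 (And.intro Fr.ne02 (And.intro Fr.ne12
    (And.intro h.ne03 (And.intro h.ne13 h.ne23))))
  have heven : ∀ k : ℕ, Commute (D.XX Fr Fr.o0 Fr.o1 0) (D.XX Fr Fr.o2 o3 ((2 * k : ℕ) : ℤ)) := fun k => by
    have := B.comm_shift n01 n23 n02 (-(2 * k : ℤ)) (B.comm_shift n01 n23 n01 (k : ℤ) h.far)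
    simp [wt, n01, n02, n12, n03, n13, n23, n01.symm, n02.symm, n12.symm, n03.symm, n13.symm, n23.symm] at this
    rw [show (k : ℤ) * 2 + -(2 * (k : ℤ)) = 0 by ring] at this
    exact_mod_cast this
  have hall : ∀ t : ℤ, Commute (D.XX Fr Fr.o0 Fr.o1 0) (D.XX Fr Fr.o2 o3 t) := fun t => by
    have hmem := hx.mem_of_pow (aeval_pow_surjective ω hω 2 (Or.inl ⟨by norm_num, le_rfl⟩)) n23
      (Subgroup.centralizer {D.XX Fr Fr.o0 Fr.o1 0}) (fun k => by
        rw [Subgroup.mem_centralizer_singleton_iff]; exact (heven k).eq.symm) ((ω : F) ^ t)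
    rw [hx.pow n23, Subgroup.mem_centralizer_singleton_iff] at hmem
    exact hmem.symm
  have rep1 : ∀ s t, Commute (D.XX Fr Fr.o0 Fr.o1 s) (D.XX Fr Fr.o2 o3 t) := fun s t => by
    have := B.comm_shift n01 n23 n02 s (hall (t + s))
    simp [wt, n01, n02, n12, n03, n13, n23, n01.symm, n02.symm, n12.symm, n03.symm, n13.symm, n23.symm] at this
    exact this
  have rep2 : ∀ s t, Commute (D.XX Fr Fr.o0 Fr.o1 s) (D.XX Fr o3 Fr.o2 t) := fun s t => by
    have hmem : swap Fr.o0 o3 * swap Fr.o0 Fr.o2 ∈ Fr.H := Fr.hH (mem_alternatingGroup.mpr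
      (by rw [Perm.sign_mul, sign_swap n03, sign_swap n02]; decide))
    have hwp : Commute (D.XX Fr Fr.o0 Fr.o2 (s + t)) (D.XX Fr o3 Fr.o1 0) := by
      have e0 : (swap Fr.o0 o3 * swap Fr.o0 Fr.o2) Fr.o0 = Fr.o2 := by
        rw [Perm.mul_apply, swap_apply_left, swap_apply_of_ne_of_ne n02.symm n23]
      have e1 : (swap Fr.o0 o3 * swap Fr.o0 Fr.o2) Fr.o1 = Fr.o1 := by
        rw [Perm.mul_apply, swap_apply_of_ne_of_ne n01.symm n12, swap_apply_of_ne_of_ne n01.symm n13]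
      have hmem' := inv_mem hmem
      have i0 : (swap Fr.o0 o3 * swap Fr.o0 Fr.o2)⁻¹ Fr.o0 = o3 := by
        rw [_root_.mul_inv_rev, swap_inv, swap_inv, Perm.mul_apply, swap_apply_left,
          swap_apply_of_ne_of_ne n03.symm n23.symm]
      have i1 : (swap Fr.o0 o3 * swap Fr.o0 Fr.o2)⁻¹ Fr.o1 = Fr.o1 := by
        rw [_root_.mul_inv_rev, swap_inv, swap_inv, Perm.mul_apply, swap_apply_of_ne_of_ne n01.symm n13,
          swap_apply_of_ne_of_ne n01.symm n12]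
      have i2 : (swap Fr.o0 o3 * swap Fr.o0 Fr.o2)⁻¹ Fr.o2 = Fr.o0 := by
        rw [_root_.mul_inv_rev, swap_inv, swap_inv, Perm.mul_apply, swap_apply_of_ne_of_ne n02.symm n23,
          swap_apply_right]
      have i3 : (swap Fr.o0 o3 * swap Fr.o0 Fr.o2)⁻¹ o3 = Fr.o2 := by
        rw [_root_.mul_inv_rev, swap_inv, swap_inv, Perm.mul_apply, swap_apply_right, swap_apply_left]
      have := (B.comm_mv hmem' n01 n23 (rep1 0 (s + t))).symm
      rwa [i0, i1, i2, i3] at this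
    have c0 := S.chain n13.symm n12 n23.symm 0 t
    rw [zero_add] at c0
    have hA := S.chain n01 n12 n02 s t
    have hp : Commute (D.XX Fr Fr.o0 Fr.o1 s) (D.XX Fr o3 Fr.o1 0) := S.col n03 n01 n13.symm s 0
    have hwz : Commute (D.XX Fr Fr.o0 Fr.o2 (s + t)) (D.XX Fr o3 Fr.o2 t) := S.col n03 n02 n23.symm (s + t) t
    set A := D.XX Fr Fr.o0 Fr.o1 s
    set p := D.XX Fr o3 Fr.o1 0
    set r := D.XX Fr Fr.o1 Fr.o2 t
    set w := D.XX Fr Fr.o0 Fr.o2 (s + t)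
    set z := D.XX Fr o3 Fr.o2 t
    have ez : z = p * r * p⁻¹ * r⁻¹ := by rw [c0]; group
    show A * z = z * A
    rw [← mul_inv_eq_iff_eq_mul]
    calc A * z * A⁻¹ = A * p * r * p⁻¹ * r⁻¹ * A⁻¹ := by rw [ez]; group
      _ = p * (A * r * A⁻¹) * p⁻¹ * (A * r * A⁻¹)⁻¹ := by
          rw [hp.eq, show A * r * A⁻¹ = (A * r) * A⁻¹ from rfl]
          have : p⁻¹ * A = A * p⁻¹ := (hp.symm.inv_left).eq
          calc p * A * r * p⁻¹ * r⁻¹ * A⁻¹ = p * A * r * (A⁻¹ * A * p⁻¹) * r⁻¹ * A⁻¹ := by group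
            _ = p * (A * r * A⁻¹) * p⁻¹ * (A * r * A⁻¹)⁻¹ := by rw [mul_assoc A⁻¹, ← this]; group
      _ = p * (w * r) * p⁻¹ * (w * r)⁻¹ := by rw [hA, mul_inv_cancel_right]
      _ = w * (p * r * p⁻¹ * r⁻¹) * w⁻¹ := by rw [← mul_assoc p w, ← hwp.eq]; group
      _ = z := by rw [← ez, hwz.eq, mul_inv_cancel_right]
  intro i j k l hij hkl hik hil hjk hjl s t
  obtain ⟨π, p0, p1, p2, p3⟩ := exists_perm4 n01 n02 n03 n12 n13 n23 hij hik hil hjk hjl hkl
  rcases Fr.mem_or π (swap Fr.o2 o3) (sign_swap n23) with hπ | hπ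
  · simpa only [p0, p1, p2, p3] using B.comm_mv hπ n01 n23 (rep1 s t)
  · have := B.comm_mv hπ n01 n23.symm (rep2 s t)
    simpa only [Perm.mul_apply, swap_apply_left, swap_apply_right, swap_apply_of_ne_of_ne n02 n03,
      swap_apply_of_ne_of_ne n12 n13, p0, p1, p2, p3] using this

/-- The permutations are root elements. -/
theorem High.rootGroup_eq_top (h : High Fr D o3) (hA : Fr.H = alternatingGroup ι)
    (hgen : Subgroup.closure (insert D.a (insert D.b (D.P '' (Fr.H : Set (Perm ι))))) = ⊤)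
    (hW : D.b * D.P (swap Fr.o0 Fr.o1 * swap Fr.o1 Fr.o2) ∈ rootGroup Fr D) : rootGroup Fr D = ⊤ := by
  have B := h.base
  obtain ⟨n01, n02, n12, n03, n13, n23⟩ := And.intro Fr.ne01 (And.intro Fr.ne02 (And.intro Fr.ne12
    (And.intro h.ne03 (And.intro h.ne13 h.ne23))))
  have hζ : swap Fr.o0 Fr.o1 * swap Fr.o1 Fr.o2 ∈ Fr.H := Fr.hH (mem_alternatingGroup.mpr
    (by rw [Perm.sign_mul, sign_swap n01, sign_swap n12]; decide))
  have hσ : swap Fr.o0 Fr.o1 * swap Fr.o2 o3 ∈ Fr.H := Fr.hH (mem_alternatingGroup.mpr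
    (by rw [Perm.sign_mul, sign_swap n01, sign_swap n23]; decide))
  obtain ⟨K, hKH, hKN, hKn, hKσ, -⟩ := B.killed hgen hζ hW
  have hc := hKσ _ hσ (by rw [Perm.mul_apply, swap_apply_of_ne_of_ne n02 n03, swap_apply_left])
    (by rw [Perm.mul_apply, swap_apply_of_ne_of_ne n12 n13, swap_apply_right])
  set c : Perm ι := swap Fr.o2 Fr.o1 * swap Fr.o2 o3 with hcd
  have ec : swap Fr.o0 Fr.o1 * swap Fr.o2 o3 * (swap Fr.o0 Fr.o1 * swap Fr.o1 Fr.o2) *
      (swap Fr.o0 Fr.o1 * swap Fr.o2 o3)⁻¹ * (swap Fr.o0 Fr.o1 * swap Fr.o1 Fr.o2) = c := by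
    rw [hcd, _root_.mul_inv_rev, swap_inv, swap_inv]
    ext y
    by_cases y0 : y = Fr.o0
    · subst y0; simp [n01, n02, n12, n03, n13, n23, n01.symm, n02.symm, n12.symm, n03.symm, n13.symm, n23.symm, swap_apply_def]
    by_cases y1 : y = Fr.o1
    · subst y1; simp [n01, n02, n12, n03, n13, n23, n01.symm, n02.symm, n12.symm, n03.symm, n13.symm, n23.symm, swap_apply_def]
    by_cases y2 : y = Fr.o2
    · subst y2; simp [n01, n02, n12, n03, n13, n23, n01.symm, n02.symm, n12.symm, n03.symm, n13.symm, n23.symm, swap_apply_def]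
    by_cases y3 : y = o3
    · subst y3; simp [n01, n02, n12, n03, n13, n23, n01.symm, n02.symm, n12.symm, n03.symm, n13.symm, n23.symm, swap_apply_def]
    simp [y0, y1, y2, y3, swap_apply_def]
  rw [ec] at hc
  have hc3 : IsThreeCycle c := isThreeCycle_swap_mul_swap_same n12.symm n23 n13
  have hall : alternatingGroup ι ≤ K := by
    rw [← closure_three_cycles_eq_alternating, Subgroup.closure_le]
    intro t ht
    obtain ⟨π, rfl⟩ := isConj_iff.mp (isConj_iff_cycleType_eq.mpr (hc3.trans (Eq.symm ht)))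
    rcases Fr.mem_or π (swap Fr.o2 Fr.o1) (sign_swap n12.symm) with hπ | hπ
    · exact hKn _ hπ _ hc
    · have := hKn _ hπ _ hc
      rw [show π * swap Fr.o2 Fr.o1 * c * (π * swap Fr.o2 Fr.o1)⁻¹ = (π * c * π⁻¹)⁻¹ by
        simp [hcd, mul_assoc]] at this
      exact inv_mem_iff.mp this
  rw [eq_top_iff, ← hgen, Subgroup.closure_le]
  have hP : ∀ π ∈ Fr.H, D.P π ∈ rootGroup Fr D := fun π hπ => hKN π (hall (hA ▸ hπ))
  rintro y (rfl | rfl | ⟨π, hπ, rfl⟩)
  · rw [← eta_zero (D := D) (Fr := Fr), ← B.XX_01]; exact XX_mem n01 _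
  · have := mul_mem hW (inv_mem (hP _ hζ))
    rwa [mul_inv_cancel_right] at this
  · exact hP π hπ

end Cfsg.Agent.SLPresent

namespace Cfsg.Agent.SLPresent

open Equiv Equiv.Perm

/-- The relations at representatives force SL. -/
theorem High.bijective {F : Type*} [Field F] [Finite F] {m : ℕ} {G : Type*} [Group G] {Fr : Frame (Fin (m + 1))}
    {D : Dat (Fin (m + 1)) G} {o3 : Fin (m + 1)} (h : High Fr D o3) (hm : 3 ≤ m + 1)
    (hA : Fr.H = alternatingGroup (Fin (m + 1))) {ω : Fˣ} {p : ℕ} [Fact p.Prime] [CharP F p] {f : Polynomial ℤ}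
    (R : RootRel ω p f D Fr) {th : G →* Matrix.SpecialLinearGroup (Fin (m + 1)) F} (M : Model th ω D Fr)
    (hgen : Subgroup.closure (insert D.a (insert D.b (D.P '' (Fr.H : Set (Perm (Fin (m + 1))))))) = ⊤)
    (hW : D.b * D.P (swap Fr.o0 Fr.o1 * swap Fr.o1 Fr.o2) ∈ rootGroup Fr D) :
    Function.Bijective th := by
  obtain ⟨x, hx⟩ := h.base.exists_root_map R (h.base.translates_comm h.three)
  exact h.base.exists_iso hm R.gen M hx h.three (h.disjoint4 R.gen hx) (h.rootGroup_eq_top hA hgen hW)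

end Cfsg.Agent.SLPresent
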