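import Cfsg.Agent.Lib.SLPresent.Field
import Cfsg.Agent.Lib.Linear.SLn
import Cfsg.Agent.Lib.SLGen.Cycle

/-!
Short presentations of `SL_n`, part 3: evaluation in matrices.

* `Model`: the data map to a scalar times a permutation matrix, `1 + E_01`, `diag(ω, ω⁻¹, 1, ...)`.
* `Model.th_hh`, `Model.th_XX`: the values of the torus and root elements.
* `exists_transvection_word`: every element of SL is a positive word in the transvections with entry a power.
-/

set_option autoImplicit false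
set_option linter.unusedSimpArgs false

namespace Cfsg.Agent.SLPresent

open Equiv Equiv.Perm Matrix
open Cfsg.Agent.PSL2.Pres (cj)

local notation "tv" => Matrix.SpecialLinearGroup.transvection

variable {ι : Type*} [Fintype ι] [DecidableEq ι] {F : Type*} [Field F] {G : Type*} [Group G]

/-- The diagonal entries of a torus element. -/
def hd (ω : F) (i j l : ι) : F := if l = i then ω else if l = j then ω⁻¹ else 1

/-- Values in SL. -/
structure Model (th : G →* Matrix.SpecialLinearGroup ι F) (ω : Fˣ) (D : Dat ι G) (Fr : Frame ι) : Prop where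
  th_P : ∀ π ∈ Fr.H, ∃ c : F, (th (D.P π) : Matrix ι ι F) = c • (π⁻¹).permMatrix F
  th_a : (th D.a : Matrix ι ι F) = Matrix.transvection Fr.o0 Fr.o1 1
  th_b : (th D.b : Matrix ι ι F) = Matrix.diagonal (hd (ω : F) Fr.o0 Fr.o1)

/-- Conjugation by a monomial matrix permutes the entries. -/
theorem conj_coe_of_perm {g : Matrix.SpecialLinearGroup ι F} {π : Perm ι} {c : F}
    (hg : (g : Matrix ι ι F) = c • (π⁻¹).permMatrix F) (X : Matrix.SpecialLinearGroup ι F) :
    ((g * X * g⁻¹ : Matrix.SpecialLinearGroup ι F) : Matrix ι ι F) = (X : Matrix ι ι F).submatrix ⇑(π⁻¹) ⇑(π⁻¹) := by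
  set Y : Matrix ι ι F := (X : Matrix ι ι F).submatrix ⇑(π⁻¹) ⇑(π⁻¹) with hY
  have key : (g : Matrix ι ι F) * (X : Matrix ι ι F) = Y * (g : Matrix ι ι F) := by
    rw [hg, Matrix.smul_mul, Matrix.mul_smul, Equiv.Perm.permMatrix, PEquiv.toMatrix_toPEquiv_mul,
      PEquiv.mul_toMatrix_toPEquiv]
    congr 1
    ext k l
    simp [hY, Perm.inv_def]
  rw [Matrix.SpecialLinearGroup.coe_mul, Matrix.SpecialLinearGroup.coe_mul, key, mul_assoc,
    ← Matrix.SpecialLinearGroup.coe_mul, mul_inv_cancel, Matrix.SpecialLinearGroup.coe_one, mul_one]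

omit [Fintype ι] in
theorem transvection_submatrix (π : Perm ι) (i j : ι) (c : F) :
    (Matrix.transvection i j c).submatrix ⇑(π⁻¹) ⇑(π⁻¹) = Matrix.transvection (π i) (π j) c := by
  ext k l
  simp only [Matrix.submatrix_apply, Matrix.transvection, Matrix.add_apply, Matrix.one_apply,
    Matrix.single_apply, Perm.inv_def, Equiv.symm_apply_eq, Equiv.eq_symm_apply, Equiv.apply_symm_apply]

omit [Fintype ι] in
theorem diagonal_submatrix (π : Perm ι) (d : ι → F) :
    (Matrix.diagonal d).submatrix ⇑(π⁻¹) ⇑(π⁻¹) = Matrix.diagonal fun l => d (π⁻¹ l) :=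
  Matrix.submatrix_diagonal_equiv d (π⁻¹ : Perm ι)

theorem diagonal_conj_transvection {g : Matrix.SpecialLinearGroup ι F} {d : ι → F}
    (hg : (g : Matrix ι ι F) = Matrix.diagonal d) {i j : ι} (hij : i ≠ j) (hd : d j ≠ 0) (c : F) :
    g * tv hij c * g⁻¹ = tv hij (d i / d j * c) := by
  rw [mul_inv_eq_iff_eq_mul]
  apply Subtype.ext
  rw [Matrix.SpecialLinearGroup.coe_mul, Matrix.SpecialLinearGroup.coe_mul, hg]
  show Matrix.diagonal d * Matrix.transvection i j c =
    Matrix.transvection i j (d i / d j * c) * Matrix.diagonal d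
  ext k l
  simp only [Matrix.diagonal_mul, Matrix.mul_diagonal, SLGen.tv_apply]
  by_cases h : k = i ∧ l = j
  · obtain ⟨rfl, rfl⟩ := h
    simp only [if_neg hij, and_self, if_true, zero_add]
    field_simp
  · simp only [if_neg h, add_zero]
    split_ifs with h' <;> simp [h']

variable {Fr : Frame ι} {D : Dat ι G} {th : G →* Matrix.SpecialLinearGroup ι F} {ω : Fˣ}

theorem Model.th_mv (M : Model th ω D Fr) {π : Perm ι} (hπ : π ∈ Fr.H) (g : G) :
    (th (D.mv π g) : Matrix ι ι F) = (th g : Matrix ι ι F).submatrix ⇑(π⁻¹) ⇑(π⁻¹) := by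
  obtain ⟨c, hc⟩ := M.th_P π hπ
  rw [Dat.mv, map_mul, map_mul, map_inv, conj_coe_of_perm hc]

theorem Model.th_hh (M : Model th ω D Fr) {i j : ι} (hij : i ≠ j) :
    (th (D.hh Fr i j) : Matrix ι ι F) = Matrix.diagonal (hd (ω : F) i j) := by
  obtain ⟨hπ, e0, e1⟩ := Fr.pick_spec hij
  rw [Dat.hh, M.th_mv hπ, M.th_b, diagonal_submatrix]
  congr 1
  funext l
  simp only [hd, Perm.inv_def, Equiv.symm_apply_eq, e0, e1]

theorem Model.th_eta (M : Model th ω D Fr) (k : ℤ) : th (D.eta Fr k) = tv Fr.ne01 ((ω : F) ^ k) := by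
  set g := th (D.hh Fr Fr.o1 Fr.o2) with hg
  have hgm : (g : Matrix ι ι F) = Matrix.diagonal (hd (ω : F) Fr.o1 Fr.o2) := M.th_hh Fr.ne12
  have step : ∀ c : F, g⁻¹ * tv Fr.ne01 c * g = tv Fr.ne01 ((ω : F) * c) := by
    intro c
    have h := diagonal_conj_transvection hgm Fr.ne01 (by simp [hd]) ((ω : F) * c)
    simp only [hd, if_neg Fr.ne01, if_neg Fr.ne02, ↓reduceIte] at h
    rw [show (1 / (ω : F) * ((ω : F) * c)) = c by field_simp] at h
    rw [← h]; group
  have ha : th D.a = tv Fr.ne01 1 := Subtype.ext M.th_a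
  rw [Dat.eta, cj, map_mul, map_mul, map_inv, map_zpow, map_inv, ha, ← hg]
  induction k with
  | zero => simp
  | succ k ih =>
    rw [show g⁻¹ ^ ((k : ℤ) + 1) * tv Fr.ne01 1 * (g⁻¹ ^ ((k : ℤ) + 1))⁻¹ =
      g⁻¹ * (g⁻¹ ^ (k : ℤ) * tv Fr.ne01 1 * (g⁻¹ ^ (k : ℤ))⁻¹) * g by group, ih, step,
      zpow_add_one₀ ω.ne_zero, mul_comm]
  | pred k ih =>
    rw [show g⁻¹ ^ (-(k : ℤ) - 1) * tv Fr.ne01 1 * (g⁻¹ ^ (-(k : ℤ) - 1))⁻¹ =
      g * (g⁻¹ ^ (-(k : ℤ)) * tv Fr.ne01 1 * (g⁻¹ ^ (-(k : ℤ)))⁻¹) * g⁻¹ by group, ih,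
      show (ω : F) ^ (-(k : ℤ)) = (ω : F) * (ω : F) ^ (-(k : ℤ) - 1) by
        rw [zpow_sub_one₀ ω.ne_zero]; field_simp, ← step]
    group

theorem Model.th_XX (M : Model th ω D Fr) {i j : ι} (hij : i ≠ j) (k : ℤ) :
    th (D.XX Fr i j k) = tv hij ((ω : F) ^ k) := by
  obtain ⟨hπ, e0, e1⟩ := Fr.pick_spec hij
  apply Subtype.ext
  rw [Dat.XX, M.th_mv hπ, M.th_eta]
  show (Matrix.transvection Fr.o0 Fr.o1 _).submatrix _ _ = Matrix.transvection i j _
  rw [transvection_submatrix, e0, e1]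

/-- A transvection, as a map. -/
def tvHom {i j : ι} (hij : i ≠ j) : Multiplicative F →* Matrix.SpecialLinearGroup ι F where
  toFun c := tv hij c.toAdd
  map_one' := Subtype.ext (by show Matrix.transvection i j (0 : F) = _; simp)
  map_mul' c d := Subtype.ext (Matrix.transvection_mul_transvection_same i j hij c.toAdd d.toAdd).symm

theorem tv_zpow {i j : ι} (hij : i ≠ j) (c : F) (z : ℤ) : tv hij c ^ z = tv hij (z * c) := by
  have h := map_zpow (tvHom (F := F) hij) (Multiplicative.ofAdd c) z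
  rw [← ofAdd_zsmul] at h
  rw [← zsmul_eq_mul]
  exact h.symm

theorem Model.th_word (M : Model th ω D Fr) (d : ℕ) (P : Polynomial ℤ) :
    th (PSL2.Pres.word D.a ((D.hh Fr Fr.o1 Fr.o2)⁻¹ ^ d) P) = tv Fr.ne01 (Polynomial.aeval ((ω : F) ^ d) P) := by
  have hc : ∀ i : ℕ, cj D.a ((D.hh Fr Fr.o1 Fr.o2)⁻¹ ^ d) (i : ℤ) = D.eta Fr ((d : ℤ) * i) := fun i => by
    rw [Dat.eta, cj, cj, _root_.zpow_mul, zpow_natCast (_⁻¹) d]
  rw [PSL2.Pres.word, Polynomial.aeval_eq_sum_range]
  induction P.natDegree + 1 with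
  | zero =>
    rw [Finset.range_zero, Finset.sum_empty, List.range_zero, List.map_nil, List.prod_nil, map_one]
    exact (map_one (tvHom (F := F) Fr.ne01)).symm
  | succ n ih =>
    rw [List.range_succ, List.map_append, List.prod_append, List.map_singleton, List.prod_singleton,
      Finset.sum_range_succ, map_mul, ih, map_zpow, hc, M.th_eta, tv_zpow, zsmul_eq_mul, _root_.zpow_mul, zpow_natCast,
      zpow_natCast]
    exact (map_mul (tvHom (F := F) Fr.ne01) (Multiplicative.ofAdd _) (Multiplicative.ofAdd _)).symm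

/-- Positive words in transvections with entries powers of a generator. -/
theorem exists_transvection_word [Finite F] [Nontrivial ι] (ω : Fˣ) (hω : ∀ x : Fˣ, x ∈ Subgroup.zpowers ω)
    (g : Matrix.SpecialLinearGroup ι F) :
    ∃ L : List ({ij : ι × ι // ij.1 ≠ ij.2} × ℕ), (L.map fun e => tv e.1.2 ((ω : F) ^ e.2)).prod = g := by
  haveI : Finite (Matrix.SpecialLinearGroup ι F) := Finite.of_injective (fun g => (g : Matrix ι ι F)) Subtype.val_injective
  have hg : g ∈ Subgroup.closure (Set.range fun e : {ij : ι × ι // ij.1 ≠ ij.2} × ℕ => tv e.1.2 ((ω : F) ^ e.2)) := by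
    refine SLGen.mem_of_all_transvections _ (fun i j hij c => ?_) g
    by_cases hc : c = 0
    · subst hc
      rw [show tv hij (0 : F) = 1 from map_one (tvHom (F := F) hij)]
      exact one_mem _
    · obtain ⟨k, rfl⟩ := PSL2.Pres.exists_pow_eq hω c hc
      exact Subgroup.subset_closure ⟨(⟨(i, j), hij⟩, k), rfl⟩
  rw [← Subgroup.mem_toSubmonoid, Subgroup.closure_toSubmonoid_of_finite] at hg
  obtain ⟨l, hl, rfl⟩ := Submonoid.exists_list_of_mem_closure hg
  clear hg
  induction l with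
  | nil => exact ⟨[], rfl⟩
  | cons y l ih =>
    obtain ⟨e, rfl⟩ := hl y (List.mem_cons_self)
    obtain ⟨L, hL⟩ := ih fun z hz => hl z (List.mem_cons_of_mem _ hz)
    exact ⟨e :: L, by simp only [List.map_cons, List.prod_cons, hL]⟩

end Cfsg.Agent.SLPresent
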