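import Cfsg.Agent.Lib.SLPresent.Model
import Cfsg.Agent.Lib.ChevSt.TypeAData

/-!
Short presentations of `SL_n`, part 4: from the relations for all exponents to SL.

* `Three`: row, column and chain relations for all exponents.
* `Base.translates_comm`: then the translates of `a` commute.
* `Base.killed`: the permutations die modulo the root elements.
* `Base.exists_iso`: with disjoint roots commuting, the group is SL.
-/

set_option autoImplicit false
set_option linter.unusedSimpArgs false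

namespace Cfsg.Agent.SLPresent

open Equiv Equiv.Perm

variable {ι : Type*} [Fintype ι] [DecidableEq ι] {G : Type*} [Group G] {Fr : Frame ι} {D : Dat ι G}

/-- The relations between roots with a common index. -/
structure Three (Fr : Frame ι) (D : Dat ι G) : Prop where
  row : ∀ {i j k}, i ≠ j → i ≠ k → j ≠ k → ∀ s t, Commute (D.XX Fr i j s) (D.XX Fr i k t)
  col : ∀ {i j k}, i ≠ j → i ≠ k → j ≠ k → ∀ s t, Commute (D.XX Fr i k s) (D.XX Fr j k t)
  chain : ∀ {i j k}, i ≠ j → j ≠ k → i ≠ k → ∀ s t,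
    D.XX Fr i j s * D.XX Fr j k t = D.XX Fr i k (s + t) * D.XX Fr j k t * D.XX Fr i j s

/-- Roots without a common index commute. -/
def Disjoint4 (Fr : Frame ι) (D : Dat ι G) : Prop :=
  ∀ {i j k l}, i ≠ j → k ≠ l → i ≠ k → i ≠ l → j ≠ k → j ≠ l → ∀ s t, Commute (D.XX Fr i j s) (D.XX Fr k l t)

theorem Base.translates_comm (B : Base Fr D) (S : Three Fr D) (s t : ℤ) :
    Commute (D.eta Fr s) (D.eta Fr t) := by
  have h := S.chain Fr.ne02 Fr.ne12.symm Fr.ne01 0 t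
  rw [zero_add] at h
  have e : D.XX Fr Fr.o0 Fr.o1 t = D.XX Fr Fr.o0 Fr.o2 0 * D.XX Fr Fr.o2 Fr.o1 t * (D.XX Fr Fr.o0 Fr.o2 0)⁻¹ *
      (D.XX Fr Fr.o2 Fr.o1 t)⁻¹ := by rw [h]; group
  rw [← B.XX_01 s, ← B.XX_01 t, e]
  have c1 := S.row Fr.ne01 Fr.ne02 Fr.ne12 s 0
  have c2 := S.col Fr.ne02 Fr.ne01 Fr.ne12.symm s t
  exact ((c1.mul_right c2).mul_right c1.inv_right).mul_right c2.inv_right

/-- The subgroup of root elements. -/
noncomputable def rootGroup (Fr : Frame ι) (D : Dat ι G) : Subgroup G :=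
  Subgroup.closure {g | ∃ (i j : ι) (t : ℤ), i ≠ j ∧ g = D.XX Fr i j t}

theorem XX_mem {i j : ι} (hij : i ≠ j) (t : ℤ) : D.XX Fr i j t ∈ rootGroup Fr D :=
  Subgroup.subset_closure ⟨i, j, t, hij, rfl⟩

theorem Base.rootGroup_normal (B : Base Fr D)
    (hgen : Subgroup.closure (insert D.a (insert D.b (D.P '' (Fr.H : Set (Perm ι))))) = ⊤) :
    (rootGroup Fr D).Normal := by
  have hb : ∀ m : ℤ, ∀ i j : ι, i ≠ j → ∀ t, D.b ^ m * D.XX Fr i j t * (D.b ^ m)⁻¹ ∈ rootGroup Fr D := fun m i j hij t => by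
    rw [← B.toCore.hh_01, B.hh_conj_XX hij Fr.ne01]; exact XX_mem hij _
  have conj_mem : ∀ g, (∀ i j : ι, i ≠ j → ∀ t, g * D.XX Fr i j t * g⁻¹ ∈ rootGroup Fr D) →
      ∀ x ∈ rootGroup Fr D, g * x * g⁻¹ ∈ rootGroup Fr D := by
    intro g hg x hx
    induction hx using Subgroup.closure_induction with
    | mem x hx => obtain ⟨i, j, t, hij, rfl⟩ := hx; exact hg i j hij t
    | one => simp
    | mul x y _ _ hx hy => rw [← conj_mul]; exact mul_mem hx hy
    | inv x _ hx => rw [← conj_inv]; exact inv_mem hx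
  have ha : D.a ∈ rootGroup Fr D := by
    rw [← eta_zero (D := D) (Fr := Fr), ← B.XX_01]; exact XX_mem Fr.ne01 _
  refine ⟨fun x hx g => ?_⟩
  have hg : g ∈ Subgroup.closure (insert D.a (insert D.b (D.P '' (Fr.H : Set (Perm ι))))) := by rw [hgen]; trivial
  induction hg using Subgroup.closure_induction'' generalizing x with
  | mem y hy =>
    rcases hy with rfl | rfl | ⟨π, hπ, rfl⟩
    · exact mul_mem (mul_mem ha hx) (inv_mem ha)
    · have := conj_mem (D.b ^ (1 : ℤ)) (hb 1) x hx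
      rwa [zpow_one] at this
    · refine conj_mem _ (fun i j hij t => ?_) x hx
      show D.mv π _ ∈ _
      rw [B.mv_XX hπ hij]; exact XX_mem (π.injective.ne hij) _
  | inv_mem y hy =>
    rcases hy with rfl | rfl | ⟨π, hπ, rfl⟩
    · exact mul_mem (mul_mem (inv_mem ha) hx) (inv_mem (inv_mem ha))
    · have := conj_mem (D.b ^ (-1 : ℤ)) (hb (-1)) x hx
      rwa [zpow_neg_one] at this
    · rw [← B.toCore.P_inv hπ]
      refine conj_mem _ (fun i j hij t => ?_) x hx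
      show D.mv π⁻¹ _ ∈ _
      rw [B.mv_XX (inv_mem hπ) hij]; exact XX_mem ((π⁻¹).injective.ne hij) _
  | one => simpa using hx
  | mul y z _ _ hy hz =>
    rw [show y * z * x * (y * z)⁻¹ = y * (z * x * z⁻¹) * y⁻¹ by group]
    exact hy _ (hz x hx)

/-- If `b·ζ` is a product of root elements, then so is every permutation in a suitable normal subgroup. -/
theorem Base.killed (B : Base Fr D)
    (hgen : Subgroup.closure (insert D.a (insert D.b (D.P '' (Fr.H : Set (Perm ι))))) = ⊤)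
    {ζ : Perm ι} (hζ : ζ ∈ Fr.H) (hW : D.b * D.P ζ ∈ rootGroup Fr D) :
    ∃ K : Subgroup (Perm ι), K ≤ Fr.H ∧ (∀ x ∈ K, D.P x ∈ rootGroup Fr D) ∧
      (∀ g ∈ Fr.H, ∀ x ∈ K, g * x * g⁻¹ ∈ K) ∧
      (∀ σ ∈ Fr.H, σ Fr.o0 = Fr.o1 → σ Fr.o1 = Fr.o0 → σ * ζ * σ⁻¹ * ζ ∈ K) ∧
      ∀ π ∈ Fr.H, ∀ ρ ∈ Fr.H, π Fr.o0 = Fr.o1 → π Fr.o1 = Fr.o2 → ρ Fr.o0 = Fr.o2 → ρ Fr.o1 = Fr.o0 →
        ζ⁻¹ * (π * ζ * π⁻¹)⁻¹ * (ρ * ζ * ρ⁻¹)⁻¹ ∈ K := by
  haveI := B.rootGroup_normal hgen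
  let q := QuotientGroup.mk' (rootGroup Fr D)
  have hq : ∀ g, q g = 1 ↔ g ∈ rootGroup Fr D := fun g => QuotientGroup.eq_one_iff g
  let R : Fr.H →* G ⧸ rootGroup Fr D := MonoidHom.mk' (fun x => q (D.P x)) fun x y => by
    rw [← map_mul, ← B.P_mul x x.2 y y.2]; rfl
  have hR : ∀ x (hx : x ∈ Fr.H), R ⟨x, hx⟩ = q (D.P x) := fun _ _ => rfl
  have hb : q D.b = R ⟨ζ⁻¹, inv_mem hζ⟩ := by
    have := (hq _).mpr hW
    rw [map_mul, mul_eq_one_iff_eq_inv] at this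
    rw [hR, B.toCore.P_inv hζ, map_inv]
    exact this
  have hmv : ∀ {x} (hx : x ∈ Fr.H) (y : Fr.H) (g : G), q g = R y →
      q (D.mv x g) = R (⟨x, hx⟩ * y * ⟨x, hx⟩⁻¹) := by
    intro x hx y g hg
    rw [Dat.mv, map_mul, map_mul, map_mul, map_mul, map_inv, map_inv, hg]; rfl
  refine ⟨R.ker.map Fr.H.subtype, Subgroup.map_subtype_le _, ?_, ?_, ?_, ?_⟩
  · rintro _ ⟨x, hx, rfl⟩
    exact (hq _).mp hx
  · rintro g hg _ ⟨x, hx, rfl⟩
    refine ⟨⟨g, hg⟩ * x * ⟨g, hg⟩⁻¹, ?_, rfl⟩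
    exact Subgroup.Normal.conj_mem inferInstance x hx ⟨g, hg⟩
  · intro σ hσ h0 h1
    have hbs : D.mv σ D.b = D.b⁻¹ := by
      rw [← B.toCore.hh_eq Fr.ne01.symm hσ h0 h1, B.toCore.hh_swap Fr.ne01, B.toCore.hh_01]
    have := hmv hσ _ _ hb
    rw [hbs, map_inv, hb, ← map_inv] at this
    refine ⟨⟨σ, hσ⟩ * ⟨ζ, hζ⟩ * ⟨σ, hσ⟩⁻¹ * ⟨ζ, hζ⟩, ?_, rfl⟩
    rw [SetLike.mem_coe, MonoidHom.mem_ker]
    rw [show (⟨σ, hσ⟩ * ⟨ζ, hζ⟩ * ⟨σ, hσ⟩⁻¹ * ⟨ζ, hζ⟩ : Fr.H) =
      (⟨σ, hσ⟩ * (⟨ζ⁻¹, inv_mem hζ⟩ : Fr.H) * ⟨σ, hσ⟩⁻¹)⁻¹ * ⟨ζ, hζ⟩ from Subtype.ext (by simp [mul_assoc]),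
      map_mul, map_inv, ← this, ← map_inv, inv_inv, ← map_mul]
    rw [show ((⟨ζ⁻¹, inv_mem hζ⟩ : Fr.H) * ⟨ζ, hζ⟩) = 1 from Subtype.ext (inv_mul_cancel ζ), map_one]
  · intro π hπ ρ hρ p0 p1 r0 r1
    have h := congrArg q B.tri
    rw [B.toCore.hh_eq Fr.ne12 hπ p0 p1, B.toCore.hh_eq Fr.ne02.symm hρ r0 r1, map_one, map_mul, map_mul, hb,
      hmv hπ _ _ hb, hmv hρ _ _ hb, ← map_mul, ← map_mul] at h
    refine ⟨_, h, ?_⟩
    simp [mul_assoc]

end Cfsg.Agent.SLPresent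

namespace Cfsg.Agent.SLPresent

open Equiv Equiv.Perm

variable {F : Type*} [Field F] [Finite F] {m : ℕ} {G : Type*} [Group G] {Fr : Frame (Fin (m + 1))}
  {D : Dat (Fin (m + 1)) G}

/-- The relations give SL. -/
theorem Base.exists_iso (B : Base Fr D) (hm : 3 ≤ m + 1) {ω : Fˣ} (hω : ∀ x : Fˣ, x ∈ Subgroup.zpowers ω)
    {th : G →* Matrix.SpecialLinearGroup (Fin (m + 1)) F} (M : Model th ω D Fr) {x : Fin (m + 1) → Fin (m + 1) → F → G}
    (hx : RootMap ω x D Fr) (S : Three Fr D) (hd : Disjoint4 Fr D) (hgen : rootGroup Fr D = ⊤) :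
    Function.Bijective th := by
  have hcases : ∀ t : F, t = 0 ∨ ∃ k : ℤ, (ω : F) ^ k = t := fun t => by
    by_cases ht : t = 0
    · exact Or.inl ht
    · obtain ⟨k, hk⟩ := PSL2.Pres.exists_pow_eq hω t ht
      exact Or.inr ⟨k, by rw [zpow_natCast]; exact hk⟩
  let T : ChevSt.ASys (Fin (m + 1)) F G :=
    { x := x
      th := th
      th_x := fun i j t h => by
        rcases hcases t with rfl | ⟨k, rfl⟩
        · simp [hx.zero h]
        · rw [hx.pow h, M.th_XX h]; rfl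
      add := fun i j t u h => hx.add h t u
      comm := fun i j k l t u h h' h1 h2 => by
        rcases hcases t with rfl | ⟨s, rfl⟩
        · simp [hx.zero h]
        rcases hcases u with rfl | ⟨r, rfl⟩
        · simp [hx.zero h']
        rw [hx.pow h, hx.pow h']
        by_cases hik : i = k
        · subst hik
          by_cases hjl : j = l
          · subst hjl
            obtain ⟨hm, -, -⟩ := Fr.pick_spec h
            exact (mv_comm (D := D) (B.translates_comm S s r)).eq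
          · exact (S.row h h' hjl s r).eq
        · by_cases hjl : j = l
          · subst hjl
            exact (S.col hik h h' s r).eq
          · exact (hd h h' hik h1 h2 hjl s r).eq
      mid := fun i j k t u h h' h'' => by
        rcases hcases t with rfl | ⟨s, rfl⟩
        · simp [hx.zero h, hx.zero h'']
        rcases hcases u with rfl | ⟨r, rfl⟩
        · simp [hx.zero h', hx.zero h'']
        rw [hx.pow h, hx.pow h', ← zpow_add₀ ω.ne_zero, hx.pow h'']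
        exact S.chain h h' h'' s r }
  have hT : Subgroup.closure {g | ∃ (i j : Fin (m + 1)) (t : F), i ≠ j ∧ g = T.x i j t} = ⊤ := by
    rw [eq_top_iff, ← hgen]
    refine Subgroup.closure_mono ?_
    rintro _ ⟨i, j, k, hij, rfl⟩
    exact ⟨i, j, (ω : F) ^ k, hij, (hx.pow hij k).symm⟩
  refine ⟨T.th_injective hm hT, ?_⟩
  rw [← MonoidHom.range_eq_top, eq_top_iff, ← Linear.closure_slTvSet, Subgroup.closure_le]
  rintro _ ⟨i, j, hij, c, rfl⟩
  exact ⟨x i j c, Subtype.ext (T.th_x i j c hij)⟩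

end Cfsg.Agent.SLPresent
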