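import Cfsg.Agent.Lib.SLPresent.Steinberg

/-!
Short presentations of `SL_3`, part 1: three points, all permutations.

* `Low`: the relations common to all fields; `LowGen`: for fields in which cubes span; `LowFour`: for four elements.
* `LowGen.bijective`, `LowFour.bijective`: they force SL.
-/

set_option autoImplicit false
set_option linter.unusedSimpArgs false

namespace Cfsg.Agent.SLPresent

open Equiv Equiv.Perm
open Cfsg.Agent.PSL2.Pres (cj cj_add word)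

variable {ι : Type*} [Fintype ι] [DecidableEq ι] {G : Type*} [Group G] {Fr : Frame ι} {D : Dat ι G}

/-- The common relations for three points. -/
structure Low (Fr : Frame ι) (D : Dat ι G) : Prop extends Core Fr D where
  full : Fr.H = ⊤
  three : ∀ k, k = Fr.o0 ∨ k = Fr.o1 ∨ k = Fr.o2
  share : Commute D.b (D.hh Fr Fr.o1 Fr.o2)
  tri : D.b * D.hh Fr Fr.o1 Fr.o2 * D.hh Fr Fr.o2 Fr.o0 = 1
  bab : D.b * D.a * D.b⁻¹ = D.eta Fr 2
  col0 : Commute (D.XX Fr Fr.o0 Fr.o2 0) (D.XX Fr Fr.o1 Fr.o2 0)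
  chain0 : D.XX Fr Fr.o0 Fr.o1 0 * D.XX Fr Fr.o1 Fr.o2 0 =
    D.XX Fr Fr.o0 Fr.o2 0 * D.XX Fr Fr.o1 Fr.o2 0 * D.XX Fr Fr.o0 Fr.o1 0

theorem Low.base (h : Low Fr D) : Base Fr D := by
  refine ⟨h.toCore, h.share, h.tri, h.bab, fun k l hkl k0 k1 l0 l1 => absurd ?_ hkl⟩
  rcases h.three k with rfl | rfl | rfl
  · exact absurd rfl k0
  · exact absurd rfl k1
  rcases h.three l with rfl | rfl | rfl
  · exact absurd rfl l0
  · exact absurd rfl l1
  rfl

theorem Low.mem (h : Low Fr D) (π : Perm ι) : π ∈ Fr.H := by rw [h.full]; trivial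

theorem Low.exists_map (h : Low Fr D) {i j k : ι} (hij : i ≠ j) (hik : i ≠ k) (hjk : j ≠ k) :
    ∃ π ∈ Fr.H, π Fr.o0 = i ∧ π Fr.o1 = j ∧ π Fr.o2 = k := by
  obtain ⟨π, hπ⟩ := exists_perm_map ![Fr.o0, Fr.o1, Fr.o2] ![i, j, k]
    (by simp [Function.Injective, Fin.forall_fin_succ, Fr.ne01, Fr.ne02, Fr.ne12, Fr.ne01.symm, Fr.ne02.symm,
      Fr.ne12.symm])
    (by simp [Function.Injective, Fin.forall_fin_succ, hij, hik, hjk, hij.symm, hik.symm, hjk.symm])
  exact ⟨π, h.mem π, hπ 0, hπ 1, hπ 2⟩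

/-- Row commutations along the torus. -/
theorem Low.row_shift (h : Low Fr D) {s t : ℤ}
    (hc : Commute (D.XX Fr Fr.o0 Fr.o1 s) (D.XX Fr Fr.o0 Fr.o2 t)) (i j : ℤ) :
    Commute (D.XX Fr Fr.o0 Fr.o1 (s + 2 * i + -j)) (D.XX Fr Fr.o0 Fr.o2 (t + i + j)) := by
  have := h.base.comm_shift Fr.ne01 Fr.ne02 Fr.ne12 j (h.base.comm_shift Fr.ne01 Fr.ne02 Fr.ne01 i hc)
  simp [wt, Fr.ne01, Fr.ne02, Fr.ne12, Fr.ne01.symm, Fr.ne02.symm, Fr.ne12.symm] at this
  rwa [mul_comm i 2] at this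

/-- Column commutations along the torus. -/
theorem Low.col_shift (h : Low Fr D) {s t : ℤ}
    (hc : Commute (D.XX Fr Fr.o0 Fr.o2 s) (D.XX Fr Fr.o1 Fr.o2 t)) (i j : ℤ) :
    Commute (D.XX Fr Fr.o0 Fr.o2 (s + 2 * i + j)) (D.XX Fr Fr.o1 Fr.o2 (t + i + -j)) := by
  have := h.base.comm_shift Fr.ne02 Fr.ne12 Fr.ne01 j (h.base.comm_shift Fr.ne02 Fr.ne12 Fr.ne02 i hc)
  simp [wt, Fr.ne01, Fr.ne02, Fr.ne12, Fr.ne01.symm, Fr.ne02.symm, Fr.ne12.symm] at this
  rwa [mul_comm i 2] at this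

/-- Chain relations along the torus. -/
theorem Low.chain_shift (h : Low Fr D) {s t : ℤ}
    (hc : D.XX Fr Fr.o0 Fr.o1 s * D.XX Fr Fr.o1 Fr.o2 t =
      D.XX Fr Fr.o0 Fr.o2 (s + t) * D.XX Fr Fr.o1 Fr.o2 t * D.XX Fr Fr.o0 Fr.o1 s) (i j : ℤ) :
    D.XX Fr Fr.o0 Fr.o1 (s + 2 * i + -j) * D.XX Fr Fr.o1 Fr.o2 (t + -i + 2 * j) =
      D.XX Fr Fr.o0 Fr.o2 ((s + 2 * i + -j) + (t + -i + 2 * j)) * D.XX Fr Fr.o1 Fr.o2 (t + -i + 2 * j) *
        D.XX Fr Fr.o0 Fr.o1 (s + 2 * i + -j) := by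
  have := h.base.chain_shift Fr.ne01 Fr.ne12 Fr.ne02 Fr.ne12 j
    (h.base.chain_shift Fr.ne01 Fr.ne12 Fr.ne02 Fr.ne01 i hc)
  simp [wt, Fr.ne01, Fr.ne02, Fr.ne12, Fr.ne01.symm, Fr.ne02.symm, Fr.ne12.symm] at this
  rwa [mul_comm i 2, mul_comm j 2] at this

/-- Two translates commute, from a chain, a row and a column relation at suitable exponents. -/
theorem Low.eta_comm (h : Low Fr D) {s u v : ℤ}
    (hr : Commute (D.XX Fr Fr.o0 Fr.o1 s) (D.XX Fr Fr.o0 Fr.o2 u))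
    (hcl : Commute (D.XX Fr Fr.o0 Fr.o2 s) (D.XX Fr Fr.o1 Fr.o2 v))
    (hch : D.XX Fr Fr.o0 Fr.o1 u * D.XX Fr Fr.o1 Fr.o2 v =
      D.XX Fr Fr.o0 Fr.o2 (u + v) * D.XX Fr Fr.o1 Fr.o2 v * D.XX Fr Fr.o0 Fr.o1 u) :
    Commute (D.eta Fr s) (D.eta Fr (u + v)) := by
  have B := h.base
  obtain ⟨π, hπ, p0, p1, p2⟩ := h.exists_map Fr.ne02 Fr.ne01 Fr.ne12.symm
  have e := B.chain_mv hπ Fr.ne01 Fr.ne12 Fr.ne02 hch
  rw [p0, p1, p2] at e
  obtain ⟨ρ, hρ, r0, r1, r2⟩ := h.exists_map Fr.ne02 Fr.ne01 Fr.ne12.symm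
  have c2 := B.comm_mv hρ Fr.ne02 Fr.ne12 hcl
  rw [r0, r1, r2] at c2
  have e' : D.XX Fr Fr.o0 Fr.o1 (u + v) = D.XX Fr Fr.o0 Fr.o2 u * D.XX Fr Fr.o2 Fr.o1 v *
      (D.XX Fr Fr.o0 Fr.o2 u)⁻¹ * (D.XX Fr Fr.o2 Fr.o1 v)⁻¹ := by rw [e]; group
  rw [← B.XX_01 s, ← B.XX_01 (u + v), e']
  exact ((hr.mul_right c2).mul_right hr.inv_right).mul_right c2.inv_right

variable {F : Type*} [Field F]

/-- From exponents in a spanning set to all exponents. -/
theorem Low.three_of_span (h : Low Fr D) {ω : Fˣ} (hω : ∀ x : Fˣ, x ∈ Subgroup.zpowers ω) [Finite F]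
    {x : ι → ι → F → G} (hx : RootMap ω x D Fr) (T : Set ℤ)
    (hT : ∀ (i j : ι), i ≠ j → ∀ t, D.XX Fr i j t ∈ Subgroup.closure ((fun k => D.XX Fr i j k) '' T))
    (hrow : ∀ k ∈ T, Commute (D.XX Fr Fr.o0 Fr.o1 0) (D.XX Fr Fr.o0 Fr.o2 k))
    (hcol : ∀ k ∈ T, Commute (D.XX Fr Fr.o0 Fr.o2 0) (D.XX Fr Fr.o1 Fr.o2 k))
    (hchain : ∀ k ∈ T, D.XX Fr Fr.o0 Fr.o1 0 * D.XX Fr Fr.o1 Fr.o2 k =
      D.XX Fr Fr.o0 Fr.o2 k * D.XX Fr Fr.o1 Fr.o2 k * D.XX Fr Fr.o0 Fr.o1 0) :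
    Three Fr D := by
  have B := h.base
  have span : ∀ (i j : ι), i ≠ j → ∀ g : G, (∀ k ∈ T, Commute g (D.XX Fr i j k)) → ∀ t, Commute g (D.XX Fr i j t) := by
    intro i j hij g hg t
    have hle : Subgroup.closure ((fun k => D.XX Fr i j k) '' T) ≤ Subgroup.centralizer {g} := by
      rw [Subgroup.closure_le]
      rintro _ ⟨k, hk, rfl⟩
      rw [SetLike.mem_coe, Subgroup.mem_centralizer_singleton_iff]
      exact (hg k hk).eq.symm
    have := hle (hT i j hij t)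
    rw [Subgroup.mem_centralizer_singleton_iff] at this
    exact this.symm
  have row : ∀ s t, Commute (D.XX Fr Fr.o0 Fr.o1 s) (D.XX Fr Fr.o0 Fr.o2 t) := fun s t => by
    have := h.row_shift (span _ _ Fr.ne02 _ hrow (t + s)) 0 (-s)
    simpa using this
  have col : ∀ s t, Commute (D.XX Fr Fr.o0 Fr.o2 s) (D.XX Fr Fr.o1 Fr.o2 t) := fun s t => by
    have := h.col_shift (span _ _ Fr.ne12 _ hcol (t + s)) 0 s
    simpa using this
  have chain0 : ∀ t, D.XX Fr Fr.o0 Fr.o1 0 * D.XX Fr Fr.o1 Fr.o2 t =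
      D.XX Fr Fr.o0 Fr.o2 t * D.XX Fr Fr.o1 Fr.o2 t * D.XX Fr Fr.o0 Fr.o1 0 := by
    intro t
    let φ : Multiplicative F →* G × G :=
      { toFun := fun u => (D.XX Fr Fr.o0 Fr.o1 0 * x Fr.o1 Fr.o2 u.toAdd * (D.XX Fr Fr.o0 Fr.o1 0)⁻¹,
          x Fr.o0 Fr.o2 u.toAdd * x Fr.o1 Fr.o2 u.toAdd)
        map_one' := by simp [hx.zero Fr.ne12, hx.zero Fr.ne02]
        map_mul' := fun u v => by
          have hc : Commute (x Fr.o0 Fr.o2 v.toAdd) (x Fr.o1 Fr.o2 u.toAdd) := by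
            by_cases h1 : v.toAdd = 0
            · rw [h1, hx.zero Fr.ne02]; exact Commute.one_left _
            by_cases h2 : u.toAdd = 0
            · rw [h2, hx.zero Fr.ne12]; exact Commute.one_right _
            obtain ⟨a, ha⟩ := PSL2.Pres.exists_pow_eq hω _ h1
            obtain ⟨b, hb⟩ := PSL2.Pres.exists_pow_eq hω _ h2
            rw [← ha, ← hb, ← zpow_natCast, ← zpow_natCast, hx.pow Fr.ne02, hx.pow Fr.ne12]
            exact col _ _
          ext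
          · show _ = _ * _
            simp only [toAdd_mul, hx.add Fr.ne12]
            group
          · show _ = _ * _
            simp only [toAdd_mul, hx.add Fr.ne12, hx.add Fr.ne02]
            rw [mul_assoc, ← mul_assoc (x Fr.o0 Fr.o2 v.toAdd), hc.eq]
            group }
    let K : Subgroup (G × G) := (MonoidHom.fst G G).eqLocus (MonoidHom.snd G G)
    have hmem : φ (Multiplicative.ofAdd ((ω : F) ^ t)) ∈ K := by
      have hψ : D.XX Fr Fr.o1 Fr.o2 t ∈ Subgroup.map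
          ((MonoidHom.id G)) (Subgroup.closure ((fun k => D.XX Fr Fr.o1 Fr.o2 k) '' T)) :=
        ⟨_, hT _ _ Fr.ne12 t, rfl⟩
      let u : Multiplicative F →* G :=
        { toFun := fun u => x Fr.o1 Fr.o2 u.toAdd
          map_one' := hx.zero Fr.ne12
          map_mul' := fun u v => hx.add Fr.ne12 _ _ }
      have hle : Subgroup.closure ((fun k => D.XX Fr Fr.o1 Fr.o2 k) '' T) ≤ (K.comap φ).map u := by
        rw [Subgroup.closure_le]
        rintro _ ⟨k, hk, rfl⟩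
        refine ⟨Multiplicative.ofAdd ((ω : F) ^ k), ?_, hx.pow Fr.ne12 k⟩
        show D.XX Fr Fr.o0 Fr.o1 0 * x Fr.o1 Fr.o2 _ * _ = x Fr.o0 Fr.o2 _ * x Fr.o1 Fr.o2 _
        simp only [toAdd_ofAdd, hx.pow Fr.ne12, hx.pow Fr.ne02, hchain k hk, mul_inv_cancel_right]
      obtain ⟨v, hv, hvt⟩ := hle (hT _ _ Fr.ne12 t)
      have hker : ∀ w, u w = 1 → φ w ∈ K := fun w hw => by
        have hw' : x Fr.o1 Fr.o2 w.toAdd = 1 := hw
        have hw0 : x Fr.o0 Fr.o2 w.toAdd = 1 := by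
          obtain ⟨π, hπ, p0, p1, p2⟩ := h.exists_map Fr.ne01.symm Fr.ne12 Fr.ne02
          have := congrArg (D.mv π) hw'
          rwa [mv_one, hx.mv hπ Fr.ne12, p1, p2] at this
        show D.XX Fr Fr.o0 Fr.o1 0 * x Fr.o1 Fr.o2 _ * _ = x Fr.o0 Fr.o2 _ * x Fr.o1 Fr.o2 _
        rw [hw', hw0]; group
      have hd : u (v⁻¹ * Multiplicative.ofAdd ((ω : F) ^ t)) = 1 := by
        rw [map_mul, map_inv, hvt]
        exact inv_mul_eq_one.mpr (hx.pow Fr.ne12 t).symm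
      have := K.mul_mem hv (hker _ hd)
      rwa [← map_mul, mul_inv_cancel_left] at this
    have hmem' : D.XX Fr Fr.o0 Fr.o1 0 * x Fr.o1 Fr.o2 ((ω : F) ^ t) * (D.XX Fr Fr.o0 Fr.o1 0)⁻¹ =
        x Fr.o0 Fr.o2 ((ω : F) ^ t) * x Fr.o1 Fr.o2 ((ω : F) ^ t) := hmem
    rw [hx.pow Fr.ne12, hx.pow Fr.ne02, mul_inv_eq_iff_eq_mul] at hmem'
    exact hmem'
  have chain : ∀ s t, D.XX Fr Fr.o0 Fr.o1 s * D.XX Fr Fr.o1 Fr.o2 t =
      D.XX Fr Fr.o0 Fr.o2 (s + t) * D.XX Fr Fr.o1 Fr.o2 t * D.XX Fr Fr.o0 Fr.o1 s := fun s t => by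
    have := h.chain_shift (s := 0) (t := t - s) (by rw [zero_add]; exact chain0 _) s s
    rwa [show (0 : ℤ) + 2 * s + -s = s by ring, show t - s + -s + 2 * s = t by ring] at this
  refine ⟨fun {i j k} hij hik hjk s t => ?_, fun {i j k} hij hik hjk s t => ?_,
    fun {i j k} hij hjk hik s t => ?_⟩
  · obtain ⟨π, hπ, p0, p1, p2⟩ := h.exists_map hij hik hjk
    simpa only [p0, p1, p2] using B.comm_mv hπ Fr.ne01 Fr.ne02 (row s t)
  · obtain ⟨π, hπ, p0, p1, p2⟩ := h.exists_map hij hik hjk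
    simpa only [p0, p1, p2] using B.comm_mv hπ Fr.ne02 Fr.ne12 (col s t)
  · obtain ⟨π, hπ, p0, p1, p2⟩ := h.exists_map hij hik hjk
    simpa only [p0, p1, p2] using B.chain_mv hπ Fr.ne01 Fr.ne12 Fr.ne02 (chain s t)

/-- The permutations are root elements. -/
theorem Low.rootGroup_eq_top (h : Low Fr D)
    (hgen : Subgroup.closure (insert D.a (insert D.b (D.P '' (Fr.H : Set (Perm ι))))) = ⊤)
    (hW : D.b * D.P (swap Fr.o0 Fr.o1) ∈ rootGroup Fr D) : rootGroup Fr D = ⊤ := by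
  have B := h.base
  obtain ⟨n01, n02, n12⟩ := And.intro Fr.ne01 (And.intro Fr.ne02 Fr.ne12)
  obtain ⟨K, -, hKN, hKn, -, hK3⟩ := B.killed hgen (h.mem _) hW
  obtain ⟨π, hπ, p0, p1, p2⟩ := h.exists_map n12 n01.symm n02.symm
  obtain ⟨ρ, hρ, r0, r1, r2⟩ := h.exists_map n02.symm n12.symm n01
  have hc := hK3 π hπ ρ hρ p0 p1 r0 r1
  rw [← Equiv.swap_apply_apply π, ← Equiv.swap_apply_apply ρ, p0, p1, r0, r1, swap_inv, swap_inv, swap_inv] at hc
  have ec : swap Fr.o0 Fr.o1 * swap Fr.o1 Fr.o2 * swap Fr.o2 Fr.o0 = swap Fr.o1 Fr.o2 := by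
    ext y
    rcases h.three y with rfl | rfl | rfl <;>
      simp [n01, n02, n12, n01.symm, n02.symm, n12.symm, swap_apply_def]
  rw [ec] at hc
  have hall : (⊤ : Subgroup (Perm ι)) ≤ K := by
    rw [← Equiv.Perm.closure_isSwap, Subgroup.closure_le]
    rintro _ ⟨i, j, hij, rfl⟩
    obtain ⟨θ, hθ⟩ := exists_perm_map ![Fr.o1, Fr.o2] ![i, j]
      (by simp [Function.Injective, Fin.forall_fin_succ, n12, n12.symm])
      (by simp [Function.Injective, Fin.forall_fin_succ, hij, hij.symm])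
    have t1 : θ Fr.o1 = i := hθ 0
    have t2 : θ Fr.o2 = j := hθ 1
    have := hKn θ (h.mem θ) _ hc
    rwa [← Equiv.swap_apply_apply, t1, t2] at this
  rw [eq_top_iff, ← hgen, Subgroup.closure_le]
  have hP : ∀ π ∈ Fr.H, D.P π ∈ rootGroup Fr D := fun π _ => hKN π (hall trivial)
  rintro y (rfl | rfl | ⟨π, hπ, rfl⟩)
  · rw [← eta_zero (D := D) (Fr := Fr), ← B.XX_01]; exact XX_mem n01 _
  · have := mul_mem hW (inv_mem (hP _ (h.mem (swap Fr.o0 Fr.o1))))
    rwa [mul_inv_cancel_right] at this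
  · exact hP π hπ

/-- No two roots are without a common index. -/
theorem Low.disjoint4 (h : Low Fr D) : Disjoint4 Fr D := by
  intro i j k l hij hkl hik hil hjk hjl
  exfalso
  rcases h.three i with rfl | rfl | rfl <;> rcases h.three j with rfl | rfl | rfl <;>
    rcases h.three k with rfl | rfl | rfl <;> rcases h.three l with rfl | rfl | rfl <;> simp at *

/-- The extra relations when cubes span. -/
structure LowGen (Fr : Frame ι) (D : Dat ι G) (g : Polynomial ℤ) : Prop extends Low Fr D where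
  row0 : Commute (D.XX Fr Fr.o0 Fr.o1 0) (D.XX Fr Fr.o0 Fr.o2 0)
  etaW : D.eta Fr 1 = word D.a ((D.hh Fr Fr.o1 Fr.o2)⁻¹ ^ 3) g

theorem LowGen.translates {g : Polynomial ℤ} (h : LowGen Fr D g) (s t : ℤ) :
    Commute (D.eta Fr s) (D.eta Fr t) := by
  set V := Subgroup.closure (Set.range fun k : ℤ => D.eta Fr (3 * k)) with hV
  have h3 : ∀ i j : ℤ, Commute (D.eta Fr (3 * i)) (D.eta Fr (3 * j)) := by
    intro i j
    have hr := h.toLow.row_shift h.row0 i (-i)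
    have hcl := h.toLow.col_shift h.col0 (i + j) (i + -(2 * j))
    have hch := h.toLow.chain_shift (s := 0) (t := 0) (by rw [add_zero]; exact h.chain0) j (2 * j)
    rw [show (0 : ℤ) + 2 * i + -(-i) = 3 * i by ring, show (0 : ℤ) + i + -i = 0 by ring] at hr
    rw [show (0 : ℤ) + 2 * (i + j) + (i + -(2 * j)) = 3 * i by ring,
      show (0 : ℤ) + (i + j) + -(i + -(2 * j)) = 3 * j by ring] at hcl
    rw [show (0 : ℤ) + 2 * j + -(2 * j) = 0 by ring, show (0 : ℤ) + -j + 2 * (2 * j) = 3 * j by ring] at hch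
    have := h.toLow.eta_comm hr hcl hch
    rwa [zero_add] at this
  have conj3 : ∀ k : ℤ, ∀ y ∈ V, MulAut.conj ((D.hh Fr Fr.o1 Fr.o2)⁻¹ ^ (3 * k)) y ∈ V := by
    intro k y hy
    induction hy using Subgroup.closure_induction with
    | mem y hy =>
      obtain ⟨i, rfl⟩ := hy
      refine Subgroup.subset_closure ⟨k + i, ?_⟩
      show D.eta Fr (3 * (k + i)) = _
      rw [mul_add]; exact cj_add _ _ _ _
    | one => rw [map_one]; exact one_mem _
    | mul x y _ _ hx hy => rw [map_mul]; exact mul_mem hx hy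
    | inv x _ hx => rw [map_inv]; exact inv_mem hx
  have h1 : D.eta Fr 1 ∈ V := by
    rw [h.etaW, word]
    refine list_prod_mem fun y hy => ?_
    obtain ⟨i, -, rfl⟩ := List.mem_map.mp hy
    refine zpow_mem (Subgroup.subset_closure ?_) _
    refine ⟨(i : ℤ), ?_⟩
    show D.eta Fr (3 * (i : ℤ)) = _
    simp only [Dat.eta, cj, zpow_natCast, ← pow_mul]
    rw [show (3 * (i : ℤ)) = ((3 * i : ℕ) : ℤ) by push_cast; ring, zpow_natCast]
  have step : ∀ y ∈ V, MulAut.conj ((D.hh Fr Fr.o1 Fr.o2)⁻¹ ^ (1 : ℤ)) y ∈ V := by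
    intro y hy
    induction hy using Subgroup.closure_induction with
    | mem y hy =>
      obtain ⟨i, rfl⟩ := hy
      have := conj3 i _ h1
      rw [Dat.eta, ← cj_add] at this
      show MulAut.conj _ (cj _ _ _) ∈ V
      rwa [← cj_add, add_comm]
    | one => rw [map_one]; exact one_mem _
    | mul x y _ _ hx hy => rw [map_mul]; exact mul_mem hx hy
    | inv x _ hx => rw [map_inv]; exact inv_mem hx
  have h2 : D.eta Fr 2 ∈ V := by
    have := step _ h1
    rwa [Dat.eta, ← cj_add] at this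
  have hall : ∀ n, D.eta Fr n ∈ V := by
    intro n
    have hn : n = 3 * (n / 3) + n % 3 := by omega
    rw [hn, Dat.eta, cj_add]
    refine conj3 _ _ ?_
    rcases (show n % 3 = 0 ∨ n % 3 = 1 ∨ n % 3 = 2 by omega) with e | e | e <;> rw [e]
    · exact Subgroup.subset_closure ⟨0, rfl⟩
    · exact h1
    · exact h2
  haveI : IsMulCommutative V := Subgroup.isMulCommutative_closure (by
    rintro _ ⟨i, rfl⟩ _ ⟨j, rfl⟩
    exact h3 i j)
  exact congrArg Subtype.val (mul_comm' (⟨_, hall s⟩ : V) ⟨_, hall t⟩)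

/-- The extra relations for four elements. -/
structure LowFour (Fr : Frame ι) (D : Dat ι G) : Prop extends Low Fr D where
  sq : D.a * D.a = 1
  col1 : Commute (D.XX Fr Fr.o0 Fr.o2 0) (D.XX Fr Fr.o1 Fr.o2 1)
  chain1 : D.XX Fr Fr.o0 Fr.o1 0 * D.XX Fr Fr.o1 Fr.o2 1 =
    D.XX Fr Fr.o0 Fr.o2 1 * D.XX Fr Fr.o1 Fr.o2 1 * D.XX Fr Fr.o0 Fr.o1 0

theorem LowFour.row_of_chain (h : LowFour Fr D) {s t : ℤ}
    (hc : D.XX Fr Fr.o0 Fr.o1 s * D.XX Fr Fr.o1 Fr.o2 t =
      D.XX Fr Fr.o0 Fr.o2 (s + t) * D.XX Fr Fr.o1 Fr.o2 t * D.XX Fr Fr.o0 Fr.o1 s) :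
    Commute (D.XX Fr Fr.o0 Fr.o1 s) (D.XX Fr Fr.o0 Fr.o2 (s + t)) := by
  have hsq : ∀ i j k, D.XX Fr i j k * D.XX Fr i j k = 1 := fun i j k => by
    show D.mv _ _ * D.mv _ _ = 1
    rw [← mv_mul, show D.eta Fr k * D.eta Fr k = 1 by
      simp only [Dat.eta, cj]
      rw [conj_mul, h.sq, mul_one, mul_inv_cancel], mv_one]
  set A := D.XX Fr Fr.o0 Fr.o1 s
  set y := D.XX Fr Fr.o1 Fr.o2 t
  set w := D.XX Fr Fr.o0 Fr.o2 (s + t)
  have hA : A⁻¹ = A := inv_eq_of_mul_eq_one_right (hsq _ _ _)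
  have e1 : A * y * A⁻¹ = w * y := by rw [hc, mul_inv_cancel_right]
  have e2 : A * w * A⁻¹ * (w * y) = y := by
    calc A * w * A⁻¹ * (w * y) = A * w * A⁻¹ * (A * y * A⁻¹) := by rw [e1]
      _ = A * (w * y) * A⁻¹ := by group
      _ = A * (A * y * A⁻¹) * A⁻¹ := by rw [e1]
      _ = (A * A) * y * (A * A)⁻¹ := by group
      _ = y := by rw [hsq, inv_one, one_mul, mul_one]
  rw [← mul_assoc, mul_eq_right, mul_eq_one_iff_eq_inv] at e2
  rw [show w⁻¹ = w from inv_eq_of_mul_eq_one_right (hsq _ _ _)] at e2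
  exact mul_inv_eq_iff_eq_mul.mp e2

theorem LowFour.translates (h : LowFour Fr D) (s t : ℤ) : Commute (D.eta Fr s) (D.eta Fr t) := by
  have hch0 := h.toLow.chain_shift (s := 0) (t := 0) (by rw [add_zero]; exact h.chain0)
  have hch1 := h.toLow.chain_shift (s := 0) (t := 1) (by rw [zero_add]; exact h.chain1)
  have hr0 : ∀ i j, Commute (D.XX Fr Fr.o0 Fr.o1 (0 + 2 * i + -j)) (D.XX Fr Fr.o0 Fr.o2 (0 + i + j)) :=
    h.toLow.row_shift (by simpa using h.row_of_chain (s := 0) (t := 0) (by rw [add_zero]; exact h.chain0))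
  have hr1 : ∀ i j, Commute (D.XX Fr Fr.o0 Fr.o1 (0 + 2 * i + -j)) (D.XX Fr Fr.o0 Fr.o2 (1 + i + j)) :=
    h.toLow.row_shift (by simpa using h.row_of_chain (s := 0) (t := 1) (by rw [zero_add]; exact h.chain1))
  have hc0 := h.toLow.col_shift h.col0
  have hc1 := h.toLow.col_shift h.col1
  have key : ∀ k : ℤ, Commute (D.eta Fr 0) (D.eta Fr (3 * k)) ∧ Commute (D.eta Fr 0) (D.eta Fr (3 * k + 2)) := by
    intro k
    constructor
    · have a1 := hr0 0 0
      have a2 := hc0 k (-2 * k)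
      have a3 := hch0 k (2 * k)
      ring_nf at a1 a2 a3
      have := h.toLow.eta_comm (s := 0) (u := 0) (v := k * 3) a1 a2 (by ring_nf; exact a3)
      ring_nf at this ⊢
      exact this
    · have a1 := hr1 0 0
      have a2 := hc1 k (-2 * k)
      have a3 := hch0 (k + 1) (2 * k + 1)
      ring_nf at a1 a2 a3
      have := h.toLow.eta_comm (s := 0) (u := 1) (v := 1 + k * 3) a1 a2 (by ring_nf; exact a3)
      ring_nf at this ⊢
      exact this
  have shift : ∀ n, Commute (D.eta Fr 0) (D.eta Fr n) → ∀ m, Commute (D.eta Fr m) (D.eta Fr (m + n)) := by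
    intro n hn m
    have := hn.map (MulAut.conj ((D.hh Fr Fr.o1 Fr.o2)⁻¹ ^ m))
    unfold Dat.eta at this ⊢
    rwa [← cj_add, ← cj_add, add_zero] at this
  rcases (show (t - s) % 3 = 0 ∨ (t - s) % 3 = 2 ∨ (s - t) % 3 = 2 by omega) with e | e | e
  · have := shift _ (key ((t - s) / 3)).1 s
    rwa [show s + 3 * ((t - s) / 3) = t by omega] at this
  · have := shift _ (key ((t - s) / 3)).2 s
    rwa [show s + (3 * ((t - s) / 3) + 2) = t by omega] at this
  · have := shift _ (key ((s - t) / 3)).2 t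
    rw [show t + (3 * ((s - t) / 3) + 2) = s by omega] at this
    exact this.symm

end Cfsg.Agent.SLPresent

namespace Cfsg.Agent.SLPresent

open Equiv Equiv.Perm

variable {F : Type*} [Field F] [Finite F] {m : ℕ} {G : Type*} [Group G] {Fr : Frame (Fin (m + 1))}
  {D : Dat (Fin (m + 1)) G} {ω : Fˣ} {p : ℕ} [Fact p.Prime] [CharP F p] {f : Polynomial ℤ}

/-- The relations force SL when cubes span. -/
theorem LowGen.bijective {g : Polynomial ℤ} (h : LowGen Fr D g) (hm : 3 ≤ m + 1) (hq : Nat.card F ≠ 4)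
    (R : RootRel ω p f D Fr) {th : G →* Matrix.SpecialLinearGroup (Fin (m + 1)) F} (M : Model th ω D Fr)
    (hgen : Subgroup.closure (insert D.a (insert D.b (D.P '' (Fr.H : Set (Perm (Fin (m + 1))))))) = ⊤)
    (hW : D.b * D.P (swap Fr.o0 Fr.o1) ∈ rootGroup Fr D) : Function.Bijective th := by
  obtain ⟨x, hx⟩ := h.toLow.base.exists_root_map R h.translates
  have S : Three Fr D := h.toLow.three_of_span R.gen hx (Set.range fun k : ℕ => ((3 * k : ℕ) : ℤ))
    (fun i j hij t => by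
      rw [← hx.pow hij t]
      refine hx.mem_of_pow (aeval_pow_surjective ω R.gen 3 (Or.inr ⟨rfl, hq⟩)) hij _ (fun k => ?_) _
      exact Subgroup.subset_closure ⟨_, ⟨k, rfl⟩, rfl⟩)
    (by
      rintro _ ⟨k, rfl⟩
      simpa [show (k : ℤ) + 2 * k = 3 * k by ring] using h.toLow.row_shift h.row0 (k : ℤ) (2 * k))
    (by
      rintro _ ⟨k, rfl⟩
      simpa [show (k : ℤ) + 2 * k = 3 * k by ring] using h.toLow.col_shift h.col0 (k : ℤ) (-(2 * k)))
    (by
      rintro _ ⟨k, rfl⟩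
      have := h.toLow.chain_shift (s := 0) (t := 0) (by rw [add_zero]; exact h.chain0) (k : ℤ) (2 * k)
      push_cast
      ring_nf at this ⊢
      exact this)
  exact h.toLow.base.exists_iso hm R.gen M hx S h.toLow.disjoint4 (h.toLow.rootGroup_eq_top hgen hW)

/-- The relations force SL for four elements. -/
theorem LowFour.bijective (h : LowFour Fr D) (hm : 3 ≤ m + 1) (hq : Nat.card F = 4)
    (R : RootRel ω p f D Fr) {th : G →* Matrix.SpecialLinearGroup (Fin (m + 1)) F} (M : Model th ω D Fr)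
    (hgen : Subgroup.closure (insert D.a (insert D.b (D.P '' (Fr.H : Set (Perm (Fin (m + 1))))))) = ⊤)
    (hW : D.b * D.P (swap Fr.o0 Fr.o1) ∈ rootGroup Fr D) : Function.Bijective th := by
  obtain ⟨x, hx⟩ := h.toLow.base.exists_root_map R h.translates
  have hord : orderOf ω = 3 := by
    rw [orderOf_eq_card_of_forall_mem_zpowers R.gen, Nat.card_units, hq]
  have hadd : (ω : F) ^ (2 : ℕ) = 1 + (ω : F) := by
    have h3 : (ω : F) ^ 3 = 1 := by
      rw [← Units.val_pow_eq_pow_val, ← hord, pow_orderOf_eq_one, Units.val_one]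
    have h1 : (ω : F) - 1 ≠ 0 := fun e => by
      have : ω = 1 := Units.ext (by simpa [sub_eq_zero] using e)
      simp [this] at hord
    have h4 : (ω : F) ^ 2 + (ω : F) + 1 = 0 := by
      have : ((ω : F) - 1) * ((ω : F) ^ 2 + (ω : F) + 1) = 0 := by linear_combination h3
      exact (mul_eq_zero.mp this).resolve_left h1
    haveI : Fintype F := Fintype.ofFinite F
    have h2 : (2 : F) = 0 := by
      have h' : ((Fintype.card F : ℕ) : F) = 0 := Nat.cast_card_eq_zero F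
      rw [← Nat.card_eq_fintype_card, hq] at h'
      push_cast at h'
      have : (2 : F) * 2 = 0 := by rw [← h']; norm_num
      exact (mul_self_eq_zero.mp this)
    linear_combination h4 - (1 + (ω : F)) * h2
  have hper : ∀ (i j : Fin (m + 1)), i ≠ j → ∀ t, D.XX Fr i j t = D.XX Fr i j (t % 3) := by
    intro i j hij t
    rw [← hx.pow hij, ← hx.pow hij]
    congr 1
    conv_lhs => rw [← Int.emod_add_mul_ediv t 3]
    rw [zpow_add₀ ω.ne_zero, zpow_mul, show ((ω : F) ^ (3 : ℤ)) = 1 by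
      rw [zpow_ofNat, ← Units.val_pow_eq_pow_val, ← hord, pow_orderOf_eq_one, Units.val_one], one_zpow, mul_one]
  have S : Three Fr D := h.toLow.three_of_span R.gen hx {0, 1}
    (fun i j hij t => by
      rw [hper i j hij t]
      rcases (show t % 3 = 0 ∨ t % 3 = 1 ∨ t % 3 = 2 by omega) with e | e | e <;> rw [e]
      · exact Subgroup.subset_closure ⟨0, by simp, rfl⟩
      · exact Subgroup.subset_closure ⟨1, by simp, rfl⟩
      · rw [show D.XX Fr i j 2 = D.XX Fr i j 0 * D.XX Fr i j 1 by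
          rw [← hx.pow hij, ← hx.pow hij, ← hx.pow hij, ← hx.add hij, zpow_ofNat, hadd]
          simp]
        exact mul_mem (Subgroup.subset_closure ⟨0, by simp, rfl⟩) (Subgroup.subset_closure ⟨1, by simp, rfl⟩))
    (by
      rintro k (rfl | rfl)
      · simpa using h.row_of_chain (s := 0) (t := 0) (by rw [add_zero]; exact h.chain0)
      · simpa using h.row_of_chain (s := 0) (t := 1) (by rw [zero_add]; exact h.chain1))
    (by rintro k (rfl | rfl); exacts [h.col0, h.col1])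
    (by rintro k (rfl | rfl); exacts [h.chain0, h.chain1])
  exact h.toLow.base.exists_iso hm R.gen M hx S h.toLow.disjoint4 (h.toLow.rootGroup_eq_top hgen hW)

end Cfsg.Agent.SLPresent
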